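import Cfsg.Agent.CITPlane4.Count
import Cfsg.Agent.Plane4.PlaneAut

/-!
# A simple CIT group with two normalisers `2^4:A5` over a Sylow 2-subgroup of order 64 is `L3(4)`
-/

set_option autoImplicit false

open Subgroup
open scoped Pointwise

namespace Cfsg.Agent.CITPlane4

universe u

variable {G : Type u} [Group G] [Finite G]

/-- The lines: the fixed point sets of the involutions. -/
def lines (V : Subgroup G) : Set (Finset (G ⧸ normalizer (V : Set G))) :=
  {ℓ | ∃ t : G, IsInv t ∧ ∀ q, q ∈ ℓ ↔ t • q = q}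

namespace Hyp

variable {S V W : Subgroup G} (H : Hyp S V W)
include H

theorem steiner : Cfsg.IsSteinerSystem 2 5 (lines V) := by
  classical
  have := Fintype.ofFinite (G ⧸ normalizer (V : Set G))
  refine ⟨fun ℓ ⟨t, ht, hℓ⟩ => ?_, fun s hs => ?_⟩
  · rw [← Nat.card_eq_finsetCard, ← H.card_fix ht]
    exact Nat.card_congr (Equiv.subtypeEquivRight hℓ)
  obtain ⟨a, b, hab, rfl⟩ := Finset.card_eq_two.mp hs
  obtain ⟨g, rfl⟩ := QuotientGroup.mk_surjective a
  set o : G ⧸ normalizer (V : Set G) := ((1 : G) : G ⧸ normalizer (V : Set G))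
  have hgo : g • o = (g : G ⧸ normalizer (V : Set G)) := smul_one_eq g
  have hq : g⁻¹ • b ≠ o := fun e => hab (by rw [← hgo, ← e, smul_inv_smul])
  obtain ⟨-, t, ht, htP, htq⟩ := H.points.2 _ hq
  obtain ⟨X, hX, htX⟩ := H.invol_fam ht htP
  have hqX := (H.fx_eq hX).2 t htX ht.1 _ htq
  refine ⟨Finset.univ.filter fun q => (g * t * g⁻¹) • q = q,
    ⟨⟨g * t * g⁻¹, ht.conj g, fun q => by simp⟩, ?_⟩, ?_⟩
  · intro x hx
    rw [Finset.mem_insert, Finset.mem_singleton] at hx
    rw [Finset.mem_filter]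
    refine ⟨Finset.mem_univ _, ?_⟩
    rcases hx with rfl | rfl
    · rw [← hgo, conj_smul_smul, smul_one_eq_iff.mpr htP]
    · conv_lhs => rw [← smul_inv_smul g x, conj_smul_smul, htq, smul_inv_smul]
  · rintro ℓ ⟨⟨t', ht', hℓ⟩, hsub⟩
    have h1 : t' • (g • o) = g • o := hgo.symm ▸ (hℓ _).mp (hsub (Finset.mem_insert_self _ _))
    have h2 : t' • b = b :=
      (hℓ _).mp (hsub (Finset.mem_insert_of_mem (Finset.mem_singleton_self _)))
    have hu : IsInv (g⁻¹ * t' * g) := by simpa using ht'.conj g⁻¹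
    have huo : g⁻¹ * t' * g ∈ normalizer (V : Set G) := smul_one_eq_iff.mp (by
      rw [mul_smul, mul_smul, h1, inv_smul_smul])
    have huX := H.mem_of_fix hX hq hqX hu huo (by
      rw [mul_smul, mul_smul, smul_inv_smul, h2])
    ext q
    simp only [hℓ, Finset.mem_filter, Finset.mem_univ, true_and]
    constructor
    · intro hq'
      have h3 := (H.fx_eq hX).2 _ huX hu.1 (g⁻¹ • q) (by
        rw [mul_smul, mul_smul, smul_inv_smul, hq']) t htX
      conv_lhs => rw [← smul_inv_smul g q, conj_smul_smul, h3, smul_inv_smul]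
    · intro hq'
      have h3 := (H.fx_eq hX).2 t htX ht.1 (g⁻¹ • q) (by
        rw [← smul_left_cancel_iff g, smul_inv_smul, ← mul_smul, ← mul_smul]
        exact hq') _ huX
      rw [mul_smul, mul_smul, smul_inv_smul] at h3
      exact smul_left_cancel_iff g⁻¹ |>.mp h3

/-- The endgame for the configuration `Hyp`. -/
theorem iso_psl34 [IsSimpleGroup G] (F : Type) [Field F] [Fintype F] (hF : Fintype.card F = 4) :
    Nonempty (G ≃* Matrix.ProjectiveSpecialLinearGroup (Fin 3) F) := by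
  classical
  have := Fintype.ofFinite (G ⧸ normalizer (V : Set G))
  have hcard : Nat.card (G ⧸ normalizer (V : Set G)) = 21 := H.points.1
  have hα : Fintype.card (G ⧸ normalizer (V : Set G)) = 21 := by
    rw [← Nat.card_eq_fintype_card, hcard]
  have hG : Nat.card G = 20160 := by
    rw [← card_mul_index (normalizer (V : Set G)), H.cP, Subgroup.index_eq_card, hcard]
  refine Plane4.iso_psl hF hα H.steiner
    (MulAction.toPermHom G (G ⧸ normalizer (V : Set G))) ?_ (fun g => ?_) hG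
  · rw [← MonoidHom.ker_eq_bot_iff, ← Subgroup.normalCore_eq_ker]
    refine (Subgroup.Normal.eq_bot_or_eq_top inferInstance).resolve_right fun h => ?_
    have h2 := Subgroup.normalCore_le (normalizer (V : Set G))
    rw [h, top_le_iff] at h2
    have := H.cP
    rw [h2, Subgroup.card_top, hG] at this
    omega
  · have key : ∀ (g : G), ∀ ℓ ∈ lines V,
        MulAction.toPermHom G (G ⧸ normalizer (V : Set G)) g • ℓ ∈ lines V := by
      rintro g ℓ ⟨t, ht, hℓ⟩
      refine ⟨g * t * g⁻¹, ht.conj g, fun q => ?_⟩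
      rw [Finset.mem_smul_finset]
      constructor
      · rintro ⟨r, hr, rfl⟩
        show (g * t * g⁻¹) • (g • r) = g • r
        rw [conj_smul_smul, (hℓ r).mp hr]
      · intro hq
        refine ⟨g⁻¹ • q, (hℓ _).mpr ?_, smul_inv_smul g q⟩
        rw [← smul_left_cancel_iff g, smul_inv_smul, ← mul_smul, ← mul_smul]
        exact hq
    rw [MulAction.mem_stabilizer_iff]
    refine Set.Subset.antisymm ?_ fun ℓ hℓ => ⟨_, key g⁻¹ ℓ hℓ, ?_⟩
    · rintro _ ⟨ℓ, hℓ, rfl⟩
      exact key g ℓ hℓ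
    · show MulAction.toPermHom G _ g • (MulAction.toPermHom G _ g⁻¹ • ℓ) = ℓ
      rw [map_inv, smul_inv_smul]

end Hyp

/-- The configuration from standard data of a simple CIT group. -/
theorem hyp_of (hCIT : ∀ t : G, orderOf t = 2 → IsPGroup 2 (centralizer ({t} : Set G)))
    (S : Sylow 2 G) (V W : Subgroup G) (cS : Nat.card S = 64) (cV : Nat.card V = 16)
    (cW : Nat.card W = 16) (sqV : ∀ x ∈ V, x * x = 1) (sqW : ∀ x ∈ W, x * x = 1)
    (hVW : V ⊔ W = (S : Subgroup G)) (SV : (S : Subgroup G) ≤ normalizer (V : Set G))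
    (SW : (S : Subgroup G) ≤ normalizer (W : Set G))
    (cP : Nat.card (normalizer (V : Set G)) = 960) (cQ : Nat.card (normalizer (W : Set G)) = 960)
    (hcV : ∀ x ∈ (S : Subgroup G), (∀ y ∈ (S : Subgroup G), x * y = y * x) → x ∈ V)
    (hcW : ∀ x ∈ (S : Subgroup G), (∀ y ∈ (S : Subgroup G), x * y = y * x) → x ∈ W) :
    Hyp (S : Subgroup G) V W := by
  have hVS : V ≤ (S : Subgroup G) := hVW ▸ le_sup_left
  have hWS : W ≤ (S : Subgroup G) := hVW ▸ le_sup_right
  have hprod : ∀ x ∈ (S : Subgroup G), ∃ v ∈ V, ∃ w ∈ W, x = v * w := by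
    intro x hx
    rw [← hVW, ← SetLike.mem_coe,
      Subgroup.coe_mul_of_left_le_normalizer_right V W (hVS.trans SW)] at hx
    obtain ⟨v, hv, w, hw, rfl⟩ := hx
    exact ⟨v, hv, w, hw, rfl⟩
  have self : ∀ {A B : Subgroup G}, (∀ x ∈ A, x * x = 1) → (∀ x ∈ B, x * x = 1) →
      A ≤ (S : Subgroup G) → B ≤ (S : Subgroup G) →
      (∀ x ∈ (S : Subgroup G), ∃ v ∈ A, ∃ w ∈ B, x = v * w) →
      (∀ x ∈ (S : Subgroup G), (∀ y ∈ (S : Subgroup G), x * y = y * x) → x ∈ A) →
      ∀ x ∈ (S : Subgroup G), (∀ v ∈ A, x * v = v * x) → x ∈ A := by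
    intro A B hA hB hAS hBS hp hc x hx hxA
    obtain ⟨v, hv, w, hw, rfl⟩ := hp x hx
    refine mul_mem hv (hc w (hBS hw) fun y hy => ?_)
    have hwA : ∀ a ∈ A, w * a = a * w := fun a ha => by
      refine mul_left_cancel (a := v) ?_
      rw [← mul_assoc, hxA a ha, ← mul_assoc, ← mul_assoc, comm_of_sq hA ha hv]
    obtain ⟨a, ha, b, hb, rfl⟩ := hp y hy
    rw [← mul_assoc, hwA a ha, mul_assoc, comm_of_sq hB hw hb, mul_assoc]
  have hcard : Nat.card (V ⊓ W : Subgroup G) = 4 := by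
    classical
    let f : V × W → (S : Subgroup G) := fun p => ⟨(p.1 : G) * p.2, mul_mem (hVS p.1.2) (hWS p.2.2)⟩
    have := Fintype.ofFinite (S : Subgroup G)
    have h := Nat.card_congr (Equiv.sigmaFiberEquiv f)
    rw [Nat.card_sigma, Nat.card_prod, cV, cW] at h
    have hfib : ∀ s, Nat.card {p // f p = s} = Nat.card (V ⊓ W : Subgroup G) := by
      intro s
      obtain ⟨v0, hv0, w0, hw0, hs⟩ := hprod s s.2
      refine Nat.card_congr
        { toFun := fun p => ⟨v0⁻¹ * p.1.1, V.mul_mem (V.inv_mem hv0) p.1.1.2, by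
            have e : (p.1.1 : G) * p.1.2 = v0 * w0 := (congrArg Subtype.val p.2).trans hs
            rw [show v0⁻¹ * (p.1.1 : G) = v0⁻¹ * ((p.1.1 : G) * p.1.2) * (p.1.2 : G)⁻¹ by group, e,
              inv_mul_cancel_left]
            exact W.mul_mem hw0 (W.inv_mem p.1.2.2)⟩
          invFun := fun k => ⟨(⟨v0 * k.1, V.mul_mem hv0 k.2.1⟩,
              ⟨(k.1 : G)⁻¹ * w0, W.mul_mem (W.inv_mem k.2.2) hw0⟩), Subtype.ext (by
            show v0 * (k.1 : G) * ((k.1 : G)⁻¹ * w0) = s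
            rw [hs]; group)⟩
          left_inv := fun p => by
            have e : (p.1.1 : G) * p.1.2 = v0 * w0 := (congrArg Subtype.val p.2).trans hs
            refine Subtype.ext (Prod.ext (Subtype.ext (mul_inv_cancel_left v0 _)) (Subtype.ext ?_))
            show (v0⁻¹ * (p.1.1 : G))⁻¹ * w0 = p.1.2
            rw [mul_inv_rev, inv_inv, mul_assoc, ← e, inv_mul_cancel_left]
          right_inv := fun k => Subtype.ext (inv_mul_cancel_left v0 _) }
    simp only [hfib, Finset.sum_const, smul_eq_mul, Finset.card_univ,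
      ← Nat.card_eq_fintype_card] at h
    rw [cS] at h
    omega
  have hprod' : ∀ x ∈ (S : Subgroup G), ∃ w ∈ W, ∃ v ∈ V, x = w * v := fun x hx => by
    obtain ⟨v, hv, w, hw, rfl⟩ := hprod x hx
    exact ⟨v * w * v⁻¹, (Subgroup.mem_normalizer_iff.mp (SW (hVS hv)) w).mp hw, v, hv, by group⟩
  haveI : Fact (Nat.Prime 2) := ⟨Nat.prime_two⟩
  exact
    { cit := fun t ht => hCIT t ht.orderOf
      syl := Nat.odd_iff.mpr (Nat.two_dvd_ne_zero.mp S.not_dvd_index)
      cS := cS, cV := cV, cW := cW, cZ := hcard, sqV := sqV, sqW := sqW, VS := hVS, WS := hWS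
      prod := hprod, SV := SV, SW := SW, cP := cP, cQ := cQ
      selfV := self sqV sqW hVS hWS hprod hcV
      selfW := self sqW sqV hWS hVS hprod' hcW }

/-- A simple CIT group with two normalisers of order 960 over a Sylow 2-subgroup of order 64
is `PSL(3, 4)`. -/
theorem iso_psl34 [IsSimpleGroup G]
    (hCIT : ∀ t : G, orderOf t = 2 → IsPGroup 2 (centralizer ({t} : Set G)))
    (S : Sylow 2 G) (V W : Subgroup G) (cS : Nat.card S = 64) (cV : Nat.card V = 16)
    (cW : Nat.card W = 16) (sqV : ∀ x ∈ V, x * x = 1) (sqW : ∀ x ∈ W, x * x = 1)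
    (hVW : V ⊔ W = (S : Subgroup G)) (SV : (S : Subgroup G) ≤ normalizer (V : Set G))
    (SW : (S : Subgroup G) ≤ normalizer (W : Set G))
    (cP : Nat.card (normalizer (V : Set G)) = 960) (cQ : Nat.card (normalizer (W : Set G)) = 960)
    (hcV : ∀ x ∈ (S : Subgroup G), (∀ y ∈ (S : Subgroup G), x * y = y * x) → x ∈ V)
    (hcW : ∀ x ∈ (S : Subgroup G), (∀ y ∈ (S : Subgroup G), x * y = y * x) → x ∈ W)
    (F : Type) [Field F] [Fintype F] (hF : Fintype.card F = 4) :
    Nonempty (G ≃* Matrix.ProjectiveSpecialLinearGroup (Fin 3) F) :=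
  (hyp_of hCIT S V W cS cV cW sqV sqW hVW SV SW cP cQ hcV hcW).iso_psl34 F hF

/-- Existential form. -/
theorem exists_iso_psl34 [IsSimpleGroup G]
    (hCIT : ∀ t : G, orderOf t = 2 → IsPGroup 2 (centralizer ({t} : Set G)))
    (S : Sylow 2 G) (V W : Subgroup G) (cS : Nat.card S = 64) (cV : Nat.card V = 16)
    (cW : Nat.card W = 16) (sqV : ∀ x ∈ V, x * x = 1) (sqW : ∀ x ∈ W, x * x = 1)
    (hVW : V ⊔ W = (S : Subgroup G)) (SV : (S : Subgroup G) ≤ normalizer (V : Set G))
    (SW : (S : Subgroup G) ≤ normalizer (W : Set G))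
    (cP : Nat.card (normalizer (V : Set G)) = 960) (cQ : Nat.card (normalizer (W : Set G)) = 960)
    (hcV : ∀ x ∈ (S : Subgroup G), (∀ y ∈ (S : Subgroup G), x * y = y * x) → x ∈ V)
    (hcW : ∀ x ∈ (S : Subgroup G), (∀ y ∈ (S : Subgroup G), x * y = y * x) → x ∈ W) :
    ∃ (F : Type) (_ : Field F) (_ : Fintype F), Fintype.card F = 4 ∧
      Nonempty (G ≃* Matrix.ProjectiveSpecialLinearGroup (Fin 3) F) := by
  haveI : Fact (Nat.Prime 2) := ⟨Nat.prime_two⟩
  let _ : Fintype (GaloisField 2 2) := Fintype.ofFinite _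
  have hF : Fintype.card (GaloisField 2 2) = 4 := by
    rw [← Nat.card_eq_fintype_card, GaloisField.card 2 2 (by norm_num)]; norm_num
  exact ⟨GaloisField 2 2, inferInstance, inferInstance, hF,
    iso_psl34 hCIT S V W cS cV cW sqV sqW hVW SV SW cP cQ hcV hcW _ hF⟩

end Cfsg.Agent.CITPlane4
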