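import Cfsg.Agent.CITPlane4.Fifteen

/-!
# The points: the cosets of the normaliser of `V`; there are 21 of them
-/

set_option autoImplicit false

open Subgroup

namespace Cfsg.Agent.CITPlane4

universe u

variable {G : Type u} [Group G]

theorem smul_mk_eq_iff {t g : G} {P : Subgroup G} :
    t • (g : G ⧸ P) = (g : G ⧸ P) ↔ g⁻¹ * t * g ∈ P := by
  rw [MulAction.Quotient.smul_coe, smul_eq_mul, eq_comm, QuotientGroup.eq, mul_assoc]

theorem smul_one_eq_iff {t : G} {P : Subgroup G} :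
    t • ((1 : G) : G ⧸ P) = ((1 : G) : G ⧸ P) ↔ t ∈ P := by
  rw [smul_mk_eq_iff]; simp

theorem smul_one_eq (g : G) {P : Subgroup G} : g • ((1 : G) : G ⧸ P) = (g : G ⧸ P) := by
  rw [MulAction.Quotient.smul_coe, smul_eq_mul, mul_one]

theorem conj_smul_smul {α : Type*} [MulAction G α] (g t : G) (q : α) :
    (g * t * g⁻¹) • (g • q) = g • (t • q) := by
  simp [mul_smul]

theorem mem_normalizer_cj {m x : G} {K : Subgroup G} :
    x ∈ normalizer ((cj m K : Subgroup G) : Set G) ↔ m⁻¹ * x * m ∈ normalizer (K : Set G) := by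
  constructor
  · intro h
    have e := congrArg (cj m⁻¹) (cj_of_mem_normalizer h)
    rw [cj_cj, cj_cj, cj_cj, inv_mul_cancel, cj_of_mem_normalizer (one_mem _)] at e
    exact mem_normalizer_of_cj (by rwa [mul_assoc] at e ⊢)
  · intro h
    refine mem_normalizer_of_cj ?_
    have e := congrArg (cj m) (cj_of_mem_normalizer h)
    rw [cj_cj] at e
    rw [cj_cj]
    simpa [mul_assoc] using e

/-- Fibrewise bound of a cardinality. -/
theorem card_le_mul {α β : Type*} [Finite α] [Finite β] (f : α → β) {s : Set β} (hs : ∀ a, f a ∈ s)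
    {k : ℕ} (hf : ∀ b ∈ s, Nat.card {a // f a = b} ≤ k) : Nat.card α ≤ k * Nat.card s := by
  classical
  have := Fintype.ofFinite s
  let f' : α → s := fun a => ⟨f a, hs a⟩
  rw [← Nat.card_congr (Equiv.sigmaFiberEquiv f'), Nat.card_sigma]
  refine (Finset.sum_le_card_nsmul _ _ k fun b _ => ?_).trans
    (by rw [Finset.card_univ, smul_eq_mul, ← Nat.card_eq_fintype_card, mul_comm])
  exact (Nat.card_congr (Equiv.subtypeEquivRight fun a => Subtype.ext_iff)).le.trans (hf b.1 b.2)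

/-- The points fixed by a subgroup. -/
def Fx (V K : Subgroup G) : Set (G ⧸ normalizer (V : Set G)) := {q | ∀ k ∈ K, k • q = q}

/-- Points other than the base point fixed by an involution fixing the base point. -/
def Coll (V : Subgroup G) : Set (G ⧸ normalizer (V : Set G)) :=
  {q | q ≠ ((1 : G) : G ⧸ normalizer (V : Set G)) ∧
    ∃ t : G, IsInv t ∧ t ∈ normalizer (V : Set G) ∧ t • q = q}

namespace Hyp

variable [Finite G] {S V W : Subgroup G} (H : Hyp S V W)
include H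

theorem conj_z {z t : G} (hz : z ∈ V ⊓ W) (hz1 : z ≠ 1) (ht : IsInv t) :
    ∃ g, g * z * g⁻¹ = t := by
  obtain ⟨g, hg⟩ := H.conj_into (R := Subgroup.zpowers t)
    (IsPGroup.of_card (n := 1) (by rw [Nat.card_zpowers, ht.orderOf, pow_one]))
  have h := hg t (Subgroup.mem_zpowers t)
  have hm : ∃ m, m * z * m⁻¹ = g * t * g⁻¹ := by
    rcases H.S_invol h (ht.conj g).2 with h | h
    · obtain ⟨m, -, e⟩ := H.trans hz hz1 h (ht.conj g).1
      exact ⟨m, e⟩
    · obtain ⟨m, -, e⟩ := H.symm.trans (z := z) ⟨hz.2, hz.1⟩ hz1 h (ht.conj g).1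
      exact ⟨m, e⟩
  obtain ⟨m, e⟩ := hm
  refine ⟨g⁻¹ * m, ?_⟩
  calc g⁻¹ * m * z * (g⁻¹ * m)⁻¹ = g⁻¹ * (m * z * m⁻¹) * g := by group
    _ = t := by rw [e]; group

theorem card_conj_z {z t : G} (hz : z ∈ V ⊓ W) (hz1 : z ≠ 1) (ht : IsInv t) :
    Nat.card {g : G // g * z * g⁻¹ = t} = 64 := by
  obtain ⟨g0, h0⟩ := H.conj_z hz hz1 ht
  rw [← H.cS, ← H.cent_z hz hz1]
  refine Nat.card_congr
    { toFun := fun g => ⟨g0⁻¹ * g, ?_⟩
      invFun := fun s => ⟨g0 * s, ?_⟩
      left_inv := fun g => Subtype.ext (mul_inv_cancel_left g0 g)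
      right_inv := fun s => Subtype.ext (inv_mul_cancel_left g0 s) }
  · rw [mem_centralizer_singleton_iff]
    calc g0⁻¹ * g * z = g0⁻¹ * ((g : G) * z * (g : G)⁻¹) * g := by group
      _ = g0⁻¹ * (g0 * z * g0⁻¹) * g := by rw [g.2.trans h0.symm]
      _ = z * (g0⁻¹ * g) := by group
  · calc g0 * s * z * (g0 * s)⁻¹ = g0 * ((s : G) * z) * (s : G)⁻¹ * g0⁻¹ := by group
      _ = t := by rw [mem_centralizer_singleton_iff.mp s.2, ← h0]; group

theorem card_conj {s t : G} (hs : IsInv s) (ht : IsInv t) :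
    Nat.card {g : G // g * s * g⁻¹ = t} = 64 := by
  obtain ⟨z, hz, hzi⟩ := H.exists_z
  obtain ⟨m, hm⟩ := H.conj_z hz hzi.1 hs
  rw [← H.card_conj_z hz hzi.1 ht]
  refine Nat.card_congr ((Equiv.mulRight m).subtypeEquiv fun g => ?_)
  show g * s * g⁻¹ = t ↔ g * m * z * (g * m)⁻¹ = t
  rw [← hm, show g * (m * z * m⁻¹) * g⁻¹ = g * m * z * (g * m)⁻¹ by group]

theorem card_inv : Nat.card {t : G // IsInv t} = 15 * Nat.card (G ⧸ normalizer (V : Set G)) := by
  classical
  obtain ⟨z, hz, hzi⟩ := H.exists_z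
  have := Fintype.ofFinite {t : G // IsInv t}
  let f : G → {t : G // IsInv t} := fun g => ⟨g * z * g⁻¹, hzi.conj g⟩
  have h : Nat.card G = ∑ t, Nat.card {g // f g = t} := by
    rw [← Nat.card_congr (Equiv.sigmaFiberEquiv f), Nat.card_sigma]
  have hfib : ∀ t, Nat.card {g // f g = t} = 64 := fun t =>
    (Nat.card_congr (Equiv.subtypeEquivRight fun g => Subtype.ext_iff)).trans
      (H.card_conj_z hz hzi.1 t.2)
  simp only [hfib, Finset.sum_const, smul_eq_mul, Finset.card_univ,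
    ← Nat.card_eq_fintype_card] at h
  have h2 := card_mul_index (normalizer (V : Set G))
  rw [H.cP, h, Subgroup.index_eq_card] at h2
  omega

theorem card_fix {t : G} (ht : IsInv t) :
    Nat.card {q : G ⧸ normalizer (V : Set G) // t • q = q} = 5 := by
  classical
  set P := normalizer (V : Set G) with hP
  have := Fintype.ofFinite {s : G // IsInv s ∧ s ∈ P}
  have hpre : (QuotientGroup.mk : G → G ⧸ P) ⁻¹' {q | t • q = q} = {g | g⁻¹ * t * g ∈ P} :=
    Set.ext fun g => smul_mk_eq_iff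
  have h1 : Nat.card {g : G // g⁻¹ * t * g ∈ P} = 960 * Nat.card {q : G ⧸ P // t • q = q} := by
    show Nat.card ({g : G | g⁻¹ * t * g ∈ P} : Set G) = _
    rw [← hpre, Nat.card_congr (QuotientGroup.preimageMkEquivSubgroupProdSet P _), Nat.card_prod,
      H.cP]
    rfl
  let f : {g : G // g⁻¹ * t * g ∈ P} → {s : G // IsInv s ∧ s ∈ P} := fun g =>
    ⟨(g : G)⁻¹ * t * g, by simpa using ht.conj (g : G)⁻¹, g.2⟩
  have hfib : ∀ s, Nat.card {g // f g = s} = 64 := fun s => by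
    rw [← H.card_conj s.2.1 ht]
    exact Nat.card_congr
      { toFun := fun g => ⟨g.1.1, by
          have e : (g.1.1 : G)⁻¹ * t * g.1.1 = s := congrArg Subtype.val g.2
          rw [← e]; group⟩
        invFun := fun g => ⟨⟨g.1, by
            have e : (g.1 : G)⁻¹ * t * g.1 = s :=
              calc (g.1 : G)⁻¹ * t * g.1 = (g.1 : G)⁻¹ * (g.1 * s * (g.1 : G)⁻¹) * g.1 := by
                    rw [g.2]
                _ = s := by group
            rw [e]; exact s.2.2⟩, Subtype.ext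
            (calc (g.1 : G)⁻¹ * t * g.1 = (g.1 : G)⁻¹ * (g.1 * s * (g.1 : G)⁻¹) * g.1 := by
                    rw [g.2]
              _ = s := by group)⟩
        left_inv := fun _ => rfl
        right_inv := fun _ => rfl }
  have h2 : Nat.card {g : G // g⁻¹ * t * g ∈ P} = ∑ s, Nat.card {g // f g = s} := by
    rw [← Nat.card_congr (Equiv.sigmaFiberEquiv f), Nat.card_sigma]
  simp only [hfib, Finset.sum_const, smul_eq_mul, Finset.card_univ,
    ← Nat.card_eq_fintype_card] at h2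
  rw [H.card_invol, h1] at h2
  omega

theorem fx_W : Nat.card (Fx V W) = 5 ∧
    (∀ w ∈ W, w ≠ 1 → ∀ q, w • q = q → q ∈ Fx V W) ∧
    ∀ q ∈ Fx V W, ∃ h ∈ normalizer (W : Set G), q = (h : G ⧸ normalizer (V : Set G)) := by
  classical
  obtain ⟨z, hz, hzi⟩ := H.exists_z
  set P := normalizer (V : Set G) with hP
  set Q := normalizer (W : Set G) with hQ
  have hR : Nat.card (Q ⊓ P : Subgroup G) ≤ 192 := by
    refine (card_le_mul (fun r : (Q ⊓ P : Subgroup G) => (r : G) * z * (r : G)⁻¹)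
      (s := {x : G | x ∈ V ⊓ W ∧ x ≠ 1}) (fun r => ⟨⟨?_, ?_⟩, fun e => hzi.1 (conj_eq_one_iff.mp e)⟩)
      (k := 64) fun b hb => ?_).trans ?_
    · exact (Subgroup.mem_normalizer_iff.mp r.2.2 z).mp hz.1
    · exact (Subgroup.mem_normalizer_iff.mp r.2.1 z).mp hz.2
    · rw [← H.card_conj_z hz hzi.1 ⟨hb.2, H.sqV b hb.1.1⟩]
      exact Nat.card_le_card_of_injective (fun r => ⟨r.1.1, r.2⟩) fun a b e =>
        Subtype.ext (Subtype.ext (congrArg Subtype.val e :))
    · show 64 * Nat.card {x : G // x ∈ V ⊓ W ∧ x ≠ 1} ≤ 192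
      rw [H.card_nontrivial H.cZ]
  have hW : ∀ h : Q, ((h : G) : G ⧸ P) ∈ Fx V W := fun h w hw =>
    smul_mk_eq_iff.mpr (H.SV (H.WS (by
      have := (Subgroup.mem_normalizer_iff.mp (inv_mem h.2) w).mp hw
      simpa using this)))
  have h5 : 5 ≤ Nat.card (Set.range fun h : Q => ((h : G) : G ⧸ P)) := by
    have := card_le_mul (fun h : Q => ((h : G) : G ⧸ P))
      (s := Set.range fun h : Q => ((h : G) : G ⧸ P)) (fun h => ⟨h, rfl⟩) (k := 192) fun b hb => by
        obtain ⟨h0, rfl⟩ := hb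
        refine le_trans (Nat.card_le_card_of_injective
          (fun h => (⟨(h0 : G)⁻¹ * (h.1 : G), Q.mul_mem (Q.inv_mem h0.2) h.1.2,
            QuotientGroup.eq.mp h.2.symm⟩ : (Q ⊓ P : Subgroup G))) fun a b e => ?_) hR
        exact Subtype.ext (Subtype.ext (mul_left_cancel (congrArg Subtype.val e :)))
    rw [H.cQ] at this
    omega
  have hsub1 : (Set.range fun h : Q => ((h : G) : G ⧸ P)) ⊆ Fx V W := by
    rintro q ⟨h, rfl⟩; exact hW h
  have hsub2 : ∀ w ∈ W, Fx V W ⊆ {q | w • q = q} := fun w hw q hq => hq w hw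
  have hfix : ∀ w ∈ W, w ≠ 1 → Nat.card {q : G ⧸ P // w • q = q} = 5 := fun w hw hw1 =>
    H.card_fix ⟨hw1, H.sqW w hw⟩
  have hA := Nat.card_mono (Set.toFinite _) hsub1
  have hB : Nat.card (Fx V W) ≤ 5 :=
    hfix z hz.2 hzi.1 ▸ Nat.card_mono (Set.toFinite _) (hsub2 z hz.2)
  refine ⟨by omega, fun w hw hw1 q hq => ?_, fun q hq => ?_⟩
  · have he : Fx V W = {q | w • q = q} :=
      Set.eq_of_subset_of_ncard_le (hsub2 w hw) (by
        rw [← Nat.card_coe_set_eq, ← Nat.card_coe_set_eq]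
        exact (hfix w hw hw1).le.trans (by omega)) (Set.toFinite _)
    rw [he]; exact hq
  · have he : (Set.range fun h : Q => ((h : G) : G ⧸ P)) = Fx V W :=
      Set.eq_of_subset_of_ncard_le hsub1 (by
        rw [← Nat.card_coe_set_eq, ← Nat.card_coe_set_eq]; omega) (Set.toFinite _)
    obtain ⟨h, rfl⟩ := he.symm ▸ hq
    exact ⟨h, h.2, rfl⟩

theorem fx_V {q : G ⧸ normalizer (V : Set G)} (hq : ∀ v ∈ V, v • q = q) :
    q = ((1 : G) : G ⧸ normalizer (V : Set G)) := by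
  obtain ⟨z, hz, hzi⟩ := H.exists_z
  have hqW := H.fx_W.2.1 z hz.2 hzi.1 q (hq z hz.1)
  obtain ⟨h, hh, rfl⟩ := H.fx_W.2.2 q hqW
  have hS : ∀ x ∈ S, h⁻¹ * x * h ∈ normalizer (V : Set G) := fun x hx => by
    obtain ⟨v, hv, w, hw, rfl⟩ := H.prod x hx
    rw [← smul_mk_eq_iff, mul_smul, hqW w hw, hq v hv]
  obtain ⟨p, hp, hpS⟩ := H.conj_intoP (R := cj h⁻¹ S)
    (IsPGroup.of_card (n := 6) (by rw [card_cj, H.cS]; norm_num))
    (fun x hx => by
      rw [mem_cj, inv_inv] at hx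
      simpa [mul_assoc] using hS _ hx)
  have hkS : cj (p * h⁻¹) S ≤ S := by
    rintro x hx
    rw [← cj_cj, mem_cj] at hx
    have := hpS _ hx
    simpa [mul_assoc] using this
  have hkS : cj (p * h⁻¹) S = S := Subgroup.eq_of_le_of_card_ge hkS (by rw [card_cj])
  have hsq : ∀ K : Subgroup G, (∀ x ∈ K, x * x = 1) → ∀ x ∈ cj (p * h⁻¹) K, x * x = 1 := by
    intro K hK x hx
    obtain ⟨y, hy, rfl⟩ := hx
    rw [← map_mul, hK y hy, map_one]
  rcases H.eq_V_or_W (hkS ▸ Subgroup.map_mono H.VS) (hsq V H.sqV) (by rw [card_cj, H.cV])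
    with e | e
  · have h1 := mul_mem (inv_mem hp) (mem_normalizer_of_cj e)
    rw [inv_mul_cancel_left] at h1
    rw [QuotientGroup.eq, mul_one]
    exact h1
  · exfalso
    rcases H.eq_V_or_W (hkS ▸ Subgroup.map_mono H.WS) (hsq W H.sqW) (by rw [card_cj, H.cW])
      with e' | e'
    · -- then the stabiliser of the point is the normaliser of `W`
      have hk : ∀ x ∈ normalizer (W : Set G), x • (h : G ⧸ normalizer (V : Set G)) = h := by
        intro x hx
        have h1 : p * h⁻¹ * x * (p * h⁻¹)⁻¹ ∈ normalizer (V : Set G) := by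
          rw [← e', mem_normalizer_cj]
          simpa [mul_assoc] using hx
        rw [smul_mk_eq_iff]
        simpa [mul_assoc] using mul_mem (mul_mem (inv_mem hp) h1) hp
      have h4 := hk h⁻¹ (inv_mem hh)
      rw [MulAction.Quotient.smul_coe, smul_eq_mul, inv_mul_cancel, QuotientGroup.eq] at h4
      rw [inv_one, one_mul] at h4
      have h5 := cj_of_mem_normalizer (mul_mem hp (inv_mem h4))
      exact H.ne (h5.symm.trans e)
    · exact H.ne ((Subgroup.map_injective (MulAut.conj (p * h⁻¹)).injective) (e.trans e'.symm))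

theorem fx_eq {X : Subgroup G} (hX : X ∈ fam V W) : Nat.card (Fx V X) = 5 ∧
    ∀ x ∈ X, x ≠ 1 → ∀ q, x • q = q → q ∈ Fx V X := by
  obtain ⟨m, -, rfl⟩ := hX
  have key : ∀ q, q ∈ Fx V (cj m W) ↔ m⁻¹ • q ∈ Fx V W := by
    intro q
    constructor
    · intro hq w hw
      have := hq _ (conj_mem_cj (g := m) hw)
      rw [mul_smul, mul_smul] at this
      rw [← smul_left_cancel_iff m, this, smul_inv_smul]
    · intro hq x hx
      have := hq _ (mem_cj.mp hx)
      rw [mul_smul, mul_smul, smul_inv_smul] at this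
      exact smul_left_cancel_iff m⁻¹ |>.mp this
  refine ⟨?_, fun x hx hx1 q hq => (key q).mpr ?_⟩
  · rw [← H.fx_W.1]
    exact Nat.card_congr ((MulAction.toPerm m⁻¹).subtypeEquiv key)
  · refine H.fx_W.2.1 _ (mem_cj.mp hx) (fun e => hx1 ?_) _ ?_
    · rw [show x = m * (m⁻¹ * x * m) * m⁻¹ by group, e]; group
    · rw [mul_smul, mul_smul, smul_inv_smul, hq]

theorem base_mem_fx {X : Subgroup G} (hX : X ∈ fam V W) :
    ((1 : G) : G ⧸ normalizer (V : Set G)) ∈ Fx V X := fun _ hx =>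
  smul_one_eq_iff.mpr (H.fam_le hX hx)

theorem invol_fam {t : G} (ht : IsInv t) (htP : t ∈ normalizer (V : Set G)) :
    ∃ X ∈ fam V W, t ∈ X := by
  rcases H.invol_cases ht htP with h | h
  · exact H.exists_fam h ht.1
  · exact h

theorem fx_unique {X Y : Subgroup G} (hX : X ∈ fam V W) (hY : Y ∈ fam V W)
    {q : G ⧸ normalizer (V : Set G)} (hq : q ≠ ((1 : G) : G ⧸ normalizer (V : Set G)))
    (hqX : q ∈ Fx V X) (hqY : q ∈ Fx V Y) : X = Y := by
  by_contra hne
  refine hq (H.fx_V fun v hv => ?_)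
  let f : (V ⊓ X : Subgroup G) × (V ⊓ Y : Subgroup G) → V := fun p =>
    ⟨(p.1 : G) * p.2, mul_mem p.1.2.1 p.2.2.1⟩
  have hf : Function.Injective f := by
    rintro ⟨a, b⟩ ⟨a', b'⟩ e
    have e : (a : G) * b = a' * b' := congrArg Subtype.val e
    have e1 : (a' : G)⁻¹ * a = b' * (b : G)⁻¹ := by
      rw [eq_mul_inv_iff_mul_eq, mul_assoc, e, inv_mul_cancel_left]
    have h1 : (a' : G)⁻¹ * a = 1 := by
      by_contra h1
      have hXm := mul_mem (inv_mem a'.2) a.2
      refine hne (H.fam_eq hX hY hXm.2 ?_ hXm.1 h1)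
      rw [e1]
      exact (mul_mem b'.2 (inv_mem b.2)).2
    rw [h1] at e1
    exact Prod.ext (Subtype.ext (inv_mul_eq_one.mp h1).symm)
      (Subtype.ext (mul_inv_eq_one.mp e1.symm).symm)
  obtain ⟨⟨a, b⟩, hab⟩ := (hf.bijective_of_nat_card_le (by
    rw [Nat.card_prod, H.card_inf_fam hX, H.card_inf_fam hY, H.cV])).2 ⟨v, hv⟩
  have hab : (a : G) * b = v := congrArg Subtype.val hab
  rw [← hab, mul_smul, hqY _ b.2.2, hqX _ a.2.2]

theorem mem_of_fix {X : Subgroup G} (hX : X ∈ fam V W)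
    {q : G ⧸ normalizer (V : Set G)} (hq : q ≠ ((1 : G) : G ⧸ normalizer (V : Set G)))
    (hqX : q ∈ Fx V X) {t : G} (ht : IsInv t) (htP : t ∈ normalizer (V : Set G))
    (htq : t • q = q) : t ∈ X := by
  obtain ⟨Y, hY, htY⟩ := H.invol_fam ht htP
  rwa [H.fx_unique hX hY hq hqX ((H.fx_eq hY).2 t htY ht.1 q htq)]

theorem card_coll : Nat.card (Coll V) = 20 := by
  classical
  have := Fintype.ofFinite (fam V W)
  let e : (Σ X : fam V W, {q : G ⧸ normalizer (V : Set G) //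
      q ∈ Fx V (X : Subgroup G) ∧ q ≠ ((1 : G) : G ⧸ normalizer (V : Set G))}) → Coll V :=
    fun p => ⟨p.2.1, p.2.2.2, by
      obtain ⟨x, hx1⟩ : ∃ x, x ∈ V ⊓ (p.1 : Subgroup G) ∧ x ≠ 1 := by
        by_contra h
        push Not at h
        have h2 : V ⊓ (p.1 : Subgroup G) = ⊥ := (Subgroup.eq_bot_iff_forall _).mpr h
        have h3 := H.card_inf_fam p.1.2
        rw [h2, Subgroup.card_bot] at h3
        omega
      exact ⟨x, ⟨hx1.2, H.sqV x hx1.1.1⟩, le_normalizer hx1.1.1, p.2.2.1 x hx1.1.2⟩⟩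
  have he : Function.Bijective e := by
    constructor
    · rintro ⟨X, q, hq, hq1⟩ ⟨Y, r, hr, hr1⟩ h
      obtain rfl : q = r := congrArg Subtype.val h
      obtain rfl : X = Y := Subtype.ext (H.fx_unique X.2 Y.2 hq1 hq hr)
      rfl
    · rintro ⟨q, hq, t, ht, htP, htq⟩
      obtain ⟨X, hX, htX⟩ := H.invol_fam ht htP
      exact ⟨⟨⟨X, hX⟩, q, (H.fx_eq hX).2 t htX ht.1 q htq, hq⟩, rfl⟩
  rw [← Nat.card_congr (Equiv.ofBijective e he), Nat.card_sigma]
  have h4 : ∀ X : fam V W, Nat.card {q : G ⧸ normalizer (V : Set G) //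
      q ∈ Fx V (X : Subgroup G) ∧ q ≠ ((1 : G) : G ⧸ normalizer (V : Set G))} = 4 := by
    intro X
    have h : {q : G ⧸ normalizer (V : Set G) | q ∈ Fx V (X : Subgroup G) ∧
        q ≠ ((1 : G) : G ⧸ normalizer (V : Set G))} = Fx V (X : Subgroup G) \ {((1 : G) : G ⧸ normalizer (V : Set G))} := by
      ext; simp
    show Nat.card ({q : G ⧸ normalizer (V : Set G) | q ∈ Fx V (X : Subgroup G) ∧
        q ≠ ((1 : G) : G ⧸ normalizer (V : Set G))} : Set _) = 4
    rw [h, Nat.card_coe_set_eq, Set.ncard_sdiff_singleton_of_mem (H.base_mem_fx X.2),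
      ← Nat.card_coe_set_eq, (H.fx_eq X.2).1]
  simp only [h4, Finset.sum_const, smul_eq_mul, Finset.card_univ]
  rw [← Nat.card_eq_fintype_card, H.card_fam]

theorem card_out_le {X : Subgroup G} (hX : X ∈ fam V W) :
    Nat.card {v : G // IsInv v ∧ v ∈ normalizer (X : Set G) ∧ v ∉ normalizer (V : Set G)} ≤ 48 := by
  classical
  set P := normalizer (V : Set G) with hP
  have hVX : ∀ v ∈ V, v ∈ normalizer (X : Set G) := by
    intro v hv
    obtain ⟨m, hm, rfl⟩ := hX
    rw [mem_normalizer_cj]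
    have h := Subgroup.mem_normalizer_iff.mp (inv_mem hm) v
    rw [inv_inv] at h
    exact H.SW (H.VS (h.mp hv))
  have hc : Nat.card X = 16 := by
    obtain ⟨m, -, rfl⟩ := hX
    rw [card_cj, H.cW]
  have h12 : Nat.card {v : G // v ∈ V ∧ v ∉ X} = 12 := by
    have h : ({x : G | x ∈ V ∧ x ∉ X}) = (V : Set G) \ ((V ⊓ X : Subgroup G) : Set G) := by
      ext x
      simp only [Set.mem_setOf_eq, Set.mem_diff, SetLike.mem_coe, Subgroup.mem_inf]
      tauto
    show Nat.card ({x : G | x ∈ V ∧ x ∉ X} : Set G) = 12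
    rw [h, Nat.card_coe_set_eq, Set.ncard_sdiff (fun x hx => hx.1), ← Nat.card_coe_set_eq,
      ← Nat.card_coe_set_eq]
    show Nat.card V - Nat.card (V ⊓ X : Subgroup G) = 12
    rw [H.cV, H.card_inf_fam hX]
  have h75 : Nat.card {v : G // IsInv v ∧ v ∈ normalizer (X : Set G)} = 75 := by
    obtain ⟨m, -, rfl⟩ := hX
    rw [← H.symm.card_invol]
    refine Nat.card_congr ((MulAut.conj m⁻¹).toEquiv.subtypeEquiv fun v => ?_)
    show IsInv v ∧ _ ↔ IsInv (m⁻¹ * v * m⁻¹⁻¹) ∧ m⁻¹ * v * m⁻¹⁻¹ ∈ _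
    rw [mem_normalizer_cj, inv_inv]
    refine and_congr_left' ⟨fun h => by simpa using h.conj m⁻¹, fun h => ?_⟩
    have := h.conj m
    simpa [mul_assoc] using this
  have h27 : Nat.card ({x : G // x ∈ X ∧ x ≠ 1} ⊕ {v : G // v ∈ V ∧ v ∉ X}) ≤
      Nat.card {a : {v : G // IsInv v ∧ v ∈ normalizer (X : Set G)} // (a : G) ∈ P} := by
    refine Nat.card_le_card_of_injective (fun s => match s with
      | .inl x => ⟨⟨x, ⟨x.2.2, H.fam_sq hX x.2.1⟩, le_normalizer x.2.1⟩, H.fam_le hX x.2.1⟩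
      | .inr v => ⟨⟨v, ⟨fun e => v.2.2 (by rw [e]; exact one_mem X), H.sqV v v.2.1⟩, hVX v v.2.1⟩,
          le_normalizer v.2.1⟩) ?_
    rintro (x | v) (x' | v') h <;>
      have h := congrArg (fun a => ((Subtype.val a : {v : G // _}) : G)) h <;> simp only at h
    · exact congrArg Sum.inl (Subtype.ext h)
    · exact absurd (h ▸ x.2.1) v'.2.2
    · exact absurd (h ▸ x'.2.1) v.2.2
    · exact congrArg Sum.inr (Subtype.ext h)
  rw [Nat.card_sum, H.card_nontrivial hc, h12] at h27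
  have hsplit := Nat.card_congr (Equiv.sumCompl
    fun a : {v : G // IsInv v ∧ v ∈ normalizer (X : Set G)} => (a : G) ∈ P)
  rw [Nat.card_sum, h75] at hsplit
  have hle : Nat.card {v : G // IsInv v ∧ v ∈ normalizer (X : Set G) ∧ v ∉ P} ≤
      Nat.card {a : {v : G // IsInv v ∧ v ∈ normalizer (X : Set G)} // (a : G) ∉ P} :=
    Nat.card_le_card_of_injective (fun v => ⟨⟨v.1, v.2.1, v.2.2.1⟩, v.2.2.2⟩) fun a b e =>
      Subtype.ext (congrArg (fun a => a.1.1) e :)
  omega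

theorem fibre_le {q : G ⧸ normalizer (V : Set G)}
    (hq : q ≠ ((1 : G) : G ⧸ normalizer (V : Set G))) (hqC : q ∉ Coll V) :
    Nat.card {v : G // IsInv v ∧ v • ((1 : G) : G ⧸ normalizer (V : Set G)) = q} ≤ 5 := by
  classical
  rcases isEmpty_or_nonempty
      {v : G // IsInv v ∧ v • ((1 : G) : G ⧸ normalizer (V : Set G)) = q} with h | ⟨⟨v0, hv0, hv0q⟩⟩
  · rw [Nat.card_of_isEmpty]; exact Nat.zero_le _
  set D : Subgroup G := normalizer (V : Set G) ⊓ MulAction.stabilizer G q with hD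
  have hle : Nat.card D ≤ 5 := by
    haveI : Fact (Nat.Prime 2) := ⟨Nat.prime_two⟩
    have h2 : ¬ 2 ∣ Nat.card D := fun h => by
      obtain ⟨t, ht⟩ := exists_prime_orderOf_dvd_card' (G := D) 2 h
      rw [← Subgroup.orderOf_coe] at ht
      refine hqC ⟨hq, t, ⟨fun e => ?_, ?_⟩, t.2.1, MulAction.mem_stabilizer_iff.mp t.2.2⟩
      · rw [e, orderOf_one] at ht; omega
      · rw [← pow_two, ← ht, pow_orderOf_eq_one]
    have h15 : Nat.card D ∣ 15 := by
      refine Nat.Coprime.dvd_of_dvd_mul_left (k := Nat.card D) (m := 64) ?_ ?_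
      · exact (Nat.Prime.coprime_iff_not_dvd Nat.prime_two).mpr h2 |>.symm.pow_right 6
      · have := Subgroup.card_dvd_of_le (inf_le_left :
          normalizer (V : Set G) ⊓ MulAction.stabilizer G q ≤ _)
        rwa [H.cP] at this
    have hlt := Nat.le_of_dvd (by norm_num) h15
    by_contra hgt
    have : Nat.card D = 15 := by
      interval_cases hc : Nat.card D <;> first | rfl | omega | norm_num at h15
    exact H.no_fifteen inf_le_left this
  refine le_trans (Nat.card_le_card_of_injective (fun v => (⟨v0 * v.1, ?_, ?_⟩ : D))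
    fun a b e => Subtype.ext (mul_left_cancel (congrArg Subtype.val e :))) hle
  · show v0 * v.1 ∈ normalizer (V : Set G)
    rw [← smul_one_eq_iff, mul_smul, v.2.2, ← hv0q, ← mul_smul, hv0.2, one_smul]
  · show v0 * v.1 ∈ MulAction.stabilizer G q
    rw [MulAction.mem_stabilizer_iff]
    calc (v0 * v.1) • q = (v0 * v.1) • (v.1 • ((1 : G) : G ⧸ normalizer (V : Set G))) := by
          rw [v.2.2]
      _ = q := by rw [← mul_smul, mul_assoc, v.2.1.2, mul_one, hv0q]

theorem points : Nat.card (G ⧸ normalizer (V : Set G)) = 21 ∧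
    ∀ q : G ⧸ normalizer (V : Set G), q ≠ ((1 : G) : G ⧸ normalizer (V : Set G)) → q ∈ Coll V := by
  classical
  set P := normalizer (V : Set G) with hP
  set o : G ⧸ P := ((1 : G) : G ⧸ P) with ho
  have := Fintype.ofFinite (fam V W)
  have hn : Nat.card (G ⧸ P) = 21 + Nat.card {q : G ⧸ P // q ≠ o ∧ q ∉ Coll V} := by
    have h1 := Nat.card_congr (Equiv.sumCompl fun q : G ⧸ P => q ∈ Coll V)
    have h2 := Nat.card_congr (Equiv.sumCompl fun a : {q : G ⧸ P // q ∉ Coll V} => a.1 = o)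
    rw [Nat.card_sum] at h1 h2
    have h3 : Nat.card {a : {q : G ⧸ P // q ∉ Coll V} // a.1 = o} = 1 := by
      rw [Nat.card_eq_one_iff_unique]
      exact ⟨⟨fun a b => Subtype.ext (Subtype.ext (a.2.trans b.2.symm))⟩,
        ⟨⟨⟨o, fun h => h.1 rfl⟩, rfl⟩⟩⟩
    have h4 : Nat.card {a : {q : G ⧸ P // q ∉ Coll V} // ¬ a.1 = o} =
        Nat.card {q : G ⧸ P // q ≠ o ∧ q ∉ Coll V} :=
      Nat.card_congr
        { toFun := fun a => ⟨a.1.1, a.2, a.1.2⟩
          invFun := fun a => ⟨⟨a.1, a.2.2⟩, a.2.1⟩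
          left_inv := fun _ => rfl
          right_inv := fun _ => rfl }
    have h5 : Nat.card {q : G ⧸ P // q ∈ Coll V} = 20 := H.card_coll
    omega
  have hout : Nat.card {v : G // IsInv v ∧ v ∉ P} + 75 = 15 * Nat.card (G ⧸ P) := by
    rw [← H.card_inv, ← H.card_invol, ← Nat.card_congr (Equiv.sumCompl
      fun a : {v : G // IsInv v} => (a : G) ∈ P), Nat.card_sum, add_comm]
    congr 1
    · exact Nat.card_congr (Equiv.subtypeSubtypeEquivSubtypeInter _ _).symm
    · exact Nat.card_congr (Equiv.subtypeSubtypeEquivSubtypeInter _ _).symm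
  have hA : Nat.card {a : {v : G // IsInv v ∧ v ∉ P} // (a : G) • o ∈ Coll V} ≤ 240 := by
    have hX : ∀ a : {a : {v : G // IsInv v ∧ v ∉ P} // (a : G) • o ∈ Coll V},
        ∃ X : fam V W, (a.1 : G) ∈ normalizer ((X : Subgroup G) : Set G) := by
      rintro ⟨⟨v, hv, hvP⟩, hq, t, ht, htP, htq⟩
      obtain ⟨X, hX, htX⟩ := H.invol_fam ht htP
      have hqX := (H.fx_eq hX).2 t htX ht.1 _ htq
      refine ⟨⟨X, hX⟩, mem_normalizer_of_cj (Subgroup.eq_of_le_of_card_ge ?_ (by rw [card_cj]))⟩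
      rintro x hx
      rw [mem_cj] at hx
      by_cases hx1 : x = 1
      · rw [hx1]; exact one_mem X
      have hy : IsInv (v⁻¹ * x * v) := ⟨fun e => hx1 (by
        rw [show x = v * (v⁻¹ * x * v) * v⁻¹ by group, e]; group), H.fam_sq hX hx⟩
      have hyo : (v⁻¹ * x * v) • o = o := H.base_mem_fx hX _ hx
      have hyq : (v⁻¹ * x * v) • (v • o) = v • o := hqX _ hx
      rw [hv.inv_eq, mul_smul, mul_smul] at hyo hyq
      have h1 : x • (v • o) = v • o := by
        have := congrArg (v • ·) hyo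
        simpa only [← mul_smul v v, hv.2, one_smul] using this
      have h2 : x • o = o := by
        rw [← mul_smul v v, hv.2, one_smul] at hyq
        exact smul_left_cancel_iff v |>.mp hyq
      refine H.mem_of_fix hX hq hqX ⟨hx1, ?_⟩ (smul_one_eq_iff.mp h2) h1
      have := (hy.conj v).2
      simpa [mul_assoc] using this
    refine le_trans (Nat.card_le_card_of_injective (fun a => (⟨(hX a).choose, a.1.1, a.1.2.1,
      (hX a).choose_spec, a.1.2.2⟩ : Σ X : fam V W,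
        {v : G // IsInv v ∧ v ∈ normalizer ((X : Subgroup G) : Set G) ∧ v ∉ P})) fun a b e =>
      Subtype.ext (Subtype.ext (congrArg (fun p => p.2.1) e :))) ?_
    rw [Nat.card_sigma]
    refine (Finset.sum_le_card_nsmul _ _ 48 fun X _ => H.card_out_le X.2).trans ?_
    rw [Finset.card_univ, ← Nat.card_eq_fintype_card, H.card_fam, smul_eq_mul]
  have hB : Nat.card {a : {v : G // IsInv v ∧ v ∉ P} // ¬ (a : G) • o ∈ Coll V} ≤
      5 * Nat.card {q : G ⧸ P // q ≠ o ∧ q ∉ Coll V} := by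
    refine card_le_mul (fun a => (a.1 : G) • o) (s := {q : G ⧸ P | q ≠ o ∧ q ∉ Coll V})
      (fun a => ⟨fun e => a.1.2.2 (smul_one_eq_iff.mp e), a.2⟩) fun b hb =>
      le_trans (Nat.card_le_card_of_injective
        (fun a => (⟨a.1.1.1, a.1.1.2.1, a.2⟩ : {v : G // IsInv v ∧ v • o = b})) fun a b e =>
        Subtype.ext (Subtype.ext (Subtype.ext (congrArg Subtype.val e :)))) (H.fibre_le hb.1 hb.2)
  have hAB := Nat.card_congr (Equiv.sumCompl
    fun a : {v : G // IsInv v ∧ v ∉ P} => (a : G) • o ∈ Coll V)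
  rw [Nat.card_sum] at hAB
  have h0 : Nat.card {q : G ⧸ P // q ≠ o ∧ q ∉ Coll V} = 0 := by omega
  refine ⟨hn.trans (by rw [h0]), fun q hq => ?_⟩
  by_contra hqC
  rcases Nat.card_eq_zero.mp h0 with h | h
  · exact h.false ⟨q, hq, hqC⟩
  · exact h.not_finite (Set.toFinite _)

end Hyp

end Cfsg.Agent.CITPlane4
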