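import Cfsg.Agent.CITPlane4.Setting

/-!
# The five conjugates of `W` under the normaliser of `V`, and the 75 involutions of that normaliser
-/

set_option autoImplicit false

open Subgroup

namespace Cfsg.Agent.CITPlane4

universe u

variable {G : Type u} [Group G] [Finite G]

/-- The conjugates of `W` under the normaliser of `V`. -/
def fam (V W : Subgroup G) : Set (Subgroup G) :=
  {X | ∃ m ∈ normalizer (V : Set G), cj m W = X}

namespace Hyp

variable {S V W : Subgroup G} (H : Hyp S V W)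
include H

theorem W_mem_fam : W ∈ fam V W := ⟨1, one_mem _, cj_of_mem_normalizer (one_mem _)⟩

omit [Finite G] H in
theorem fam_conj {X : Subgroup G} (hX : X ∈ fam V W) {m : G} (hm : m ∈ normalizer (V : Set G)) :
    cj m X ∈ fam V W := by
  obtain ⟨k, hk, rfl⟩ := hX
  exact ⟨m * k, mul_mem hm hk, (cj_cj m k W).symm⟩

theorem fam_sq {X : Subgroup G} (hX : X ∈ fam V W) {x : G} (hx : x ∈ X) : x * x = 1 := by
  obtain ⟨m, -, rfl⟩ := hX
  have := H.sqW _ (mem_cj.mp hx)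
  rw [show m⁻¹ * x * m * (m⁻¹ * x * m) = m⁻¹ * (x * x) * m⁻¹⁻¹ by group] at this
  exact conj_eq_one_iff.mp this

theorem fam_le {X : Subgroup G} (hX : X ∈ fam V W) : X ≤ normalizer (V : Set G) := by
  obtain ⟨m, hm, rfl⟩ := hX
  intro x hx
  have h1 : m⁻¹ * x * m ∈ normalizer (V : Set G) := H.SV (H.WS (mem_cj.mp hx))
  have := mul_mem (mul_mem hm h1) (inv_mem hm)
  simpa [mul_assoc] using this

omit [Finite G] in
theorem inf_fam {m : G} (hm : m ∈ normalizer (V : Set G)) {x : G} :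
    x ∈ V ⊓ cj m W ↔ m⁻¹ * x * m ∈ V ⊓ W := by
  rw [Subgroup.mem_inf, Subgroup.mem_inf, mem_cj]
  have h := Subgroup.mem_normalizer_iff.mp (inv_mem hm) x
  rw [inv_inv] at h
  rw [h]

theorem card_inf_fam {X : Subgroup G} (hX : X ∈ fam V W) :
    Nat.card (V ⊓ X : Subgroup G) = 4 := by
  obtain ⟨m, hm, rfl⟩ := hX
  rw [← H.cZ, ← card_cj m (V ⊓ W)]
  congr 1
  refine congrArg (fun K : Subgroup G => (K : Type u)) ?_
  ext x
  rw [H.inf_fam hm, mem_cj]

theorem fam_cent {X : Subgroup G} (hX : X ∈ fam V W) {v : G} (hv : v ∈ V ⊓ X) (hv1 : v ≠ 1) :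
    centralizer ({v} : Set G) = V ⊔ X := by
  obtain ⟨m, hm, rfl⟩ := hX
  have hv' := (H.inf_fam hm).mp hv
  have hne : m⁻¹ * v * m ≠ 1 := fun e => hv1 (by
    have h2 : v = m * (m⁻¹ * v * m) * m⁻¹ := by group
    rw [h2, e]; group)
  have hc := H.cent_z hv' hne
  rw [show V ⊔ cj m W = cj m S by
    rw [← H.sup_eq, cj_sup, cj_of_mem_normalizer hm]]
  ext x
  rw [mem_cj, ← hc, mem_centralizer_singleton_iff, mem_centralizer_singleton_iff]
  constructor
  · intro h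
    calc m⁻¹ * x * m * (m⁻¹ * v * m) = m⁻¹ * (x * v) * m := by group
      _ = m⁻¹ * v * m * (m⁻¹ * x * m) := by rw [h]; group
  · intro h
    calc x * v = m * (m⁻¹ * x * m * (m⁻¹ * v * m)) * m⁻¹ := by group
      _ = v * x := by rw [h]; group

theorem fam_eq {X Y : Subgroup G} (hX : X ∈ fam V W) (hY : Y ∈ fam V W) {v : G}
    (hvX : v ∈ X) (hvY : v ∈ Y) (hv : v ∈ V) (hv1 : v ≠ 1) : X = Y := by
  have h := (H.fam_cent hX ⟨hv, hvX⟩ hv1).symm.trans (H.fam_cent hY ⟨hv, hvY⟩ hv1)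
  obtain ⟨m, hm, rfl⟩ := hX
  obtain ⟨k, hk, rfl⟩ := hY
  have hS : cj m S = cj k S := by
    rw [← H.sup_eq, cj_sup, cj_sup, cj_of_mem_normalizer hm, cj_of_mem_normalizer hk]
    exact h
  have h1 : cj (k⁻¹ * m) S = S := by
    rw [← cj_cj, hS, cj_cj, inv_mul_cancel, cj_of_mem_normalizer (one_mem _)]
  have h2 := H.mem_normalizer_W (mul_mem (inv_mem hk) hm) h1
  have h3 := congrArg (cj k) h2
  rwa [cj_cj, mul_inv_cancel_left] at h3

theorem exists_fam {v : G} (hv : v ∈ V) (hv1 : v ≠ 1) : ∃ X ∈ fam V W, v ∈ X := by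
  obtain ⟨z, hz, hzi⟩ := H.exists_z
  obtain ⟨m, hm, rfl⟩ := H.trans hz hzi.1 hv hv1
  exact ⟨cj m W, ⟨m, hm, rfl⟩, conj_mem_cj hz.2⟩

/-- An element of `V ⊔ X` and of `V ⊔ Y` lies in `V`. -/
theorem sup_inf_sup {X Y : Subgroup G} (hX : X ∈ fam V W) (hY : Y ∈ fam V W) (hne : X ≠ Y) {x : G}
    (hxX : x ∈ V ⊔ X) (hxY : x ∈ V ⊔ Y) : x ∈ V := by
  have hc : ∀ Z ∈ fam V W, x ∈ V ⊔ Z → ∀ a ∈ V ⊓ Z, x * a = a * x := by
    intro Z hZ hxZ a ha
    by_cases ha1 : a = 1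
    · rw [ha1, mul_one, one_mul]
    · rw [← H.fam_cent hZ ha ha1, mem_centralizer_singleton_iff] at hxZ
      exact hxZ
  have hinj : Function.Injective fun p : (V ⊓ X : Subgroup G) × (V ⊓ Y : Subgroup G) =>
      (⟨(p.1 : G) * p.2, mul_mem p.1.2.1 p.2.2.1⟩ : V) := by
    rintro ⟨a, b⟩ ⟨a', b'⟩ e
    have e : (a : G) * b = a' * b' := congrArg Subtype.val e
    have e1 : (a' : G)⁻¹ * a = b' * (b : G)⁻¹ := by
      calc (a' : G)⁻¹ * a = (a' : G)⁻¹ * ((a : G) * b) * (b : G)⁻¹ := by group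
        _ = b' * (b : G)⁻¹ := by rw [e]; group
    have h1 : (a' : G)⁻¹ * a = 1 := by
      by_contra h1
      exact hne (H.fam_eq hX hY (mul_mem (inv_mem a'.2.2) a.2.2)
        (e1 ▸ mul_mem b'.2.2 (inv_mem b.2.2)) (mul_mem (inv_mem a'.2.1) a.2.1) h1)
    have h2 : (b' : G) * (b : G)⁻¹ = 1 := by rw [← e1, h1]
    exact Prod.ext (Subtype.ext (inv_mul_eq_one.mp h1).symm)
      (Subtype.ext (mul_inv_eq_one.mp h2).symm)
  have hbij := hinj.bijective_of_nat_card_le (by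
    rw [Nat.card_prod, H.card_inf_fam hX, H.card_inf_fam hY, H.cV])
  have hall : ∀ u ∈ V, x * u = u * x := by
    intro u hu
    obtain ⟨⟨a, b⟩, hab⟩ := hbij.2 ⟨u, hu⟩
    have e : (a : G) * b = u := congrArg Subtype.val hab
    rw [← e, ← mul_assoc, hc X hX hxX a a.2, mul_assoc, hc Y hY hxY b b.2, mul_assoc]
  obtain ⟨m, hm, rfl⟩ := hX
  have h1 : m⁻¹ * x * m ∈ S := by
    rw [← mem_cj, ← H.sup_eq, cj_sup, cj_of_mem_normalizer hm]; exact hxX
  have h2 : m⁻¹ * x * m ∈ V := by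
    refine H.selfV _ h1 fun u hu => ?_
    have := hall _ ((Subgroup.mem_normalizer_iff.mp hm u).mp hu)
    calc m⁻¹ * x * m * u = m⁻¹ * (x * (m * u * m⁻¹)) * m := by group
      _ = u * (m⁻¹ * x * m) := by rw [this]; group
  have := (Subgroup.mem_normalizer_iff.mp hm _).mp h2
  simpa [mul_assoc] using this

theorem fam_inf {X Y : Subgroup G} (hX : X ∈ fam V W) (hY : Y ∈ fam V W) {x : G}
    (hxX : x ∈ X) (hxY : x ∈ Y) (hxV : x ∉ V) : X = Y := by
  by_contra hne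
  exact hxV (H.sup_inf_sup hX hY hne (mem_sup_right hxX) (mem_sup_right hxY))

theorem invol_cases {t : G} (ht : IsInv t) (htP : t ∈ normalizer (V : Set G)) :
    t ∈ V ∨ ∃ X ∈ fam V W, t ∈ X := by
  obtain ⟨m, hm, hmS⟩ := H.conj_intoP (R := Subgroup.zpowers t)
    (IsPGroup.of_card (n := 1) (by rw [Nat.card_zpowers, ht.orderOf, pow_one]))
    (Subgroup.zpowers_le.mpr htP)
  rcases H.S_invol (hmS t (Subgroup.mem_zpowers t)) (ht.conj m).2 with h | h
  · exact Or.inl ((Subgroup.mem_normalizer_iff.mp hm t).mpr h)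
  · exact Or.inr ⟨cj m⁻¹ W, ⟨m⁻¹, inv_mem hm, rfl⟩, mem_cj.mpr (by simpa using h)⟩

theorem card_nontrivial {X : Subgroup G} {n : ℕ} (h : Nat.card X = n) :
    Nat.card {x : G // x ∈ X ∧ x ≠ 1} = n - 1 := by
  have : ({x : G | x ∈ X ∧ x ≠ 1}) = (X : Set G) \ {1} := by ext; simp
  show Nat.card ({x : G | x ∈ X ∧ x ≠ 1} : Set G) = n - 1
  rw [this, Nat.card_coe_set_eq, Set.ncard_sdiff_singleton_of_mem (one_mem X),
    ← Nat.card_coe_set_eq]
  exact congrArg (· - 1) h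

theorem card_fam : Nat.card (fam V W) = 5 := by
  classical
  let f : {v : G // v ∈ V ∧ v ≠ 1} → fam V W := fun v =>
    ⟨(H.exists_fam v.2.1 v.2.2).choose, (H.exists_fam v.2.1 v.2.2).choose_spec.1⟩
  have hf : ∀ (v : {v : G // v ∈ V ∧ v ≠ 1}) (X : fam V W), f v = X ↔ (v : G) ∈ (X : Subgroup G) := by
    intro v X
    have h := (H.exists_fam v.2.1 v.2.2).choose_spec
    constructor
    · rintro rfl; exact h.2
    · intro hvX
      exact Subtype.ext (H.fam_eq h.1 X.2 h.2 hvX v.2.1 v.2.2)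
  have hfib : ∀ X : fam V W, Nat.card {v // f v = X} = 3 := by
    intro X
    rw [Nat.card_congr (Equiv.subtypeEquivRight fun v => hf v X)]
    rw [← show Nat.card {x : G // x ∈ V ⊓ (X : Subgroup G) ∧ x ≠ 1} = 3 from
      H.card_nontrivial (H.card_inf_fam X.2)]
    exact Nat.card_congr
      { toFun := fun v => ⟨v.1.1, ⟨v.1.2.1, v.2⟩, v.1.2.2⟩
        invFun := fun x => ⟨⟨x.1, x.2.1.1, x.2.2⟩, x.2.1.2⟩
        left_inv := fun _ => rfl
        right_inv := fun _ => rfl }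
  have := Fintype.ofFinite (fam V W)
  have h := Nat.card_congr (Equiv.sigmaFiberEquiv f)
  rw [Nat.card_sigma, H.card_nontrivial H.cV] at h
  simp only [hfib, Finset.sum_const, smul_eq_mul, Finset.card_univ] at h
  rw [Nat.card_eq_fintype_card]
  omega

theorem card_outside {X : Subgroup G} (hX : X ∈ fam V W) :
    Nat.card {x : G // x ∈ X ∧ x ∉ V} = 12 := by
  have hc : Nat.card X = 16 := by
    obtain ⟨m, -, rfl⟩ := hX
    rw [card_cj, H.cW]
  have h : ({x : G | x ∈ X ∧ x ∉ V}) = (X : Set G) \ ((V ⊓ X : Subgroup G) : Set G) := by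
    ext x
    simp only [Set.mem_setOf_eq, Set.mem_diff, SetLike.mem_coe, Subgroup.mem_inf]
    tauto
  show Nat.card ({x : G | x ∈ X ∧ x ∉ V} : Set G) = 12
  rw [h, Nat.card_coe_set_eq, Set.ncard_sdiff (by exact fun x hx => hx.2), ← Nat.card_coe_set_eq,
    ← Nat.card_coe_set_eq]
  show Nat.card X - Nat.card (V ⊓ X : Subgroup G) = 12
  rw [hc, H.card_inf_fam hX]

/-- The normaliser of `V` contains 75 involutions. -/
theorem card_invol : Nat.card {t : G // IsInv t ∧ t ∈ normalizer (V : Set G)} = 75 := by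
  classical
  have := Fintype.ofFinite (fam V W)
  let e : ({v : G // v ∈ V ∧ v ≠ 1} ⊕ Σ X : fam V W, {x : G // x ∈ (X : Subgroup G) ∧ x ∉ V}) →
      {t : G // IsInv t ∧ t ∈ normalizer (V : Set G)} := fun s => match s with
    | .inl v => ⟨v, ⟨v.2.2, H.sqV v v.2.1⟩, le_normalizer v.2.1⟩
    | .inr ⟨X, x⟩ => ⟨x, ⟨fun e => x.2.2 (by rw [e]; exact one_mem V), H.fam_sq X.2 x.2.1⟩,
        H.fam_le X.2 x.2.1⟩
  have he : Function.Bijective e := by
    constructor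
    · rintro (v | ⟨X, x⟩) (v' | ⟨X', x'⟩) h <;> have h := congrArg Subtype.val h <;>
        simp only [e] at h
      · exact congrArg Sum.inl (Subtype.ext h)
      · exact absurd (h ▸ v.2.1) x'.2.2
      · exact absurd (h ▸ v'.2.1) x.2.2
      · obtain ⟨x, hx⟩ := x
        obtain ⟨x', hx'⟩ := x'
        simp only at h
        subst h
        obtain rfl : X = X' := Subtype.ext (H.fam_inf X.2 X'.2 hx.1 hx'.1 hx.2)
        rfl
    · rintro ⟨t, ht, htP⟩
      by_cases htV : t ∈ V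
      · exact ⟨.inl ⟨t, htV, ht.1⟩, rfl⟩
      · obtain ⟨X, hX, htX⟩ := (H.invol_cases ht htP).resolve_left htV
        exact ⟨.inr ⟨⟨X, hX⟩, t, htX, htV⟩, rfl⟩
  rw [← Nat.card_congr (Equiv.ofBijective e he), Nat.card_sum, H.card_nontrivial H.cV,
    Nat.card_sigma]
  simp only [fun X : fam V W => H.card_outside X.2, Finset.sum_const, smul_eq_mul, Finset.card_univ]
  rw [← Nat.card_eq_fintype_card, H.card_fam]

end Hyp

end Cfsg.Agent.CITPlane4
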