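import Cfsg.Agent.CITPlane4.Family

/-!
# The normaliser of `V` has no subgroup of order 15
-/

set_option autoImplicit false

open Subgroup

namespace Cfsg.Agent.CITPlane4

universe u

variable {G : Type u} [Group G] [Finite G]

/-- A fixed point of a permutation of prime order on a set of prime-to-`p` size. -/
theorem exists_fix {α : Type*} [Finite α] {p : ℕ} [Fact p.Prime] (hn : ¬ p ∣ Nat.card α)
    (f : α → α) (hf : ∀ a, f^[p] a = a) : ∃ a, f a = a := by
  classical
  have := Fintype.ofFinite α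
  have hbij : Function.Bijective f := by
    have hinj : Function.Injective f := fun a b e => by
      rw [← hf a, ← hf b, show p = (p - 1) + 1 from (Nat.sub_add_cancel (Fact.out : p.Prime).one_le).symm,
        Function.iterate_succ_apply, Function.iterate_succ_apply, e]
    exact Finite.injective_iff_bijective.mp hinj
  obtain ⟨a, ha⟩ := Equiv.Perm.exists_fixed_point_of_prime (n := 1) (by rwa [← Nat.card_eq_fintype_card])
    (σ := Equiv.ofBijective f hbij) (by
      rw [pow_one]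
      refine Equiv.ext fun a => ?_
      rw [Equiv.Perm.coe_pow]
      exact hf a)
  exact ⟨a, ha⟩

omit [Finite G] in
theorem iterate_conj (g : G) {T : Set G} (hT : ∀ x ∈ T, g * x * g⁻¹ ∈ T) (n : ℕ) (a : T) :
    (((fun x : T => (⟨g * x * g⁻¹, hT _ x.2⟩ : T))^[n] a : T) : G) = g ^ n * a * (g ^ n)⁻¹ := by
  induction n with
  | zero => simp
  | succ n ih =>
    rw [Function.iterate_succ_apply']
    show g * _ * g⁻¹ = _
    rw [ih, pow_succ']; group

omit [Finite G] in
/-- Conjugation by an element of prime order fixes a point of an invariant set of prime-to-`p` size. -/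
theorem exists_commute_of_set {p : ℕ} [Fact p.Prime] {g : G} (hg : g ^ p = 1) {T : Set G}
    [Finite T] (hT : ∀ x ∈ T, g * x * g⁻¹ ∈ T) (hn : ¬ p ∣ Nat.card T) :
    ∃ x ∈ T, g * x = x * g := by
  obtain ⟨a, ha⟩ := exists_fix hn (fun x : T => (⟨g * x * g⁻¹, hT _ x.2⟩ : T))
    fun a => Subtype.ext (by rw [iterate_conj g hT, hg]; group)
  have ha : g * (a : G) * g⁻¹ = a := congrArg Subtype.val ha
  exact ⟨a, a.2, mul_inv_eq_iff_eq_mul.mp ha⟩

namespace Hyp

variable {S V W : Subgroup G} (H : Hyp S V W)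
include H

theorem not_commute_inv {p : ℕ} (hp : p.Prime) (h2 : p ≠ 2) {g t : G} (hg : orderOf g = p)
    (ht : IsInv t) (hc : g * t = t * g) : False := by
  obtain ⟨k, hk⟩ := H.cit t ht ⟨g, mem_centralizer_singleton_iff.mpr hc⟩
  have h3 : g ^ (2 ^ k) = 1 := congrArg Subtype.val hk
  have h4 := orderOf_dvd_of_pow_eq_one h3
  rw [hg] at h4
  exact h2 ((Nat.prime_dvd_prime_iff_eq hp Nat.prime_two).mp (hp.dvd_of_dvd_pow h4))

theorem five_moves {y : G} (hy : orderOf y = 5) (hyP : y ∈ normalizer (V : Set G)) {X : Subgroup G}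
    (hX : X ∈ fam V W) : cj y X ≠ X := by
  intro e
  haveI : Fact (Nat.Prime 5) := ⟨by norm_num⟩
  have h3 := H.card_nontrivial (H.card_inf_fam hX)
  obtain ⟨v, hv, hc⟩ := exists_commute_of_set (p := 5) (g := y) (hy ▸ pow_orderOf_eq_one y)
    (T := {x : G | x ∈ V ⊓ X ∧ x ≠ 1})
    (fun x hx => ⟨⟨(Subgroup.mem_normalizer_iff.mp hyP x).mp hx.1.1, e ▸ conj_mem_cj hx.1.2⟩,
      fun h => hx.2 (conj_eq_one_iff.mp h)⟩)
    (by
      show ¬ 5 ∣ Nat.card {x : G // x ∈ V ⊓ X ∧ x ≠ 1}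
      rw [h3]; norm_num)
  exact H.not_commute_inv (by norm_num) (by norm_num) hy ⟨hv.2, H.sqV v hv.1.1⟩ hc

theorem two_fixes {u : G} (hu : u * u = 1) (huP : u ∈ normalizer (V : Set G)) {X : Subgroup G}
    (hX : X ∈ fam V W) (e : cj u X = X) : u ∈ V ⊔ X := by
  haveI : Fact (Nat.Prime 2) := ⟨Nat.prime_two⟩
  have h3 := H.card_nontrivial (H.card_inf_fam hX)
  obtain ⟨v, hv, hc⟩ := exists_commute_of_set (p := 2) (g := u) (by rw [pow_two, hu])
    (T := {x : G | x ∈ V ⊓ X ∧ x ≠ 1})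
    (fun x hx => ⟨⟨(Subgroup.mem_normalizer_iff.mp huP x).mp hx.1.1, e ▸ conj_mem_cj hx.1.2⟩,
      fun h => hx.2 (conj_eq_one_iff.mp h)⟩)
    (by
      show ¬ 2 ∣ Nat.card {x : G // x ∈ V ⊓ X ∧ x ≠ 1}
      rw [h3]; norm_num)
  rw [← H.fam_cent hX hv.1 hv.2, mem_centralizer_singleton_iff]
  exact hc

theorem no_fifteen {D : Subgroup G} (hD : D ≤ normalizer (V : Set G)) (hc : Nat.card D = 15) :
    False := by
  classical
  haveI : Fact (Nat.Prime 5) := ⟨by norm_num⟩
  haveI : Fact (Nat.Prime 3) := ⟨Nat.prime_three⟩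
  obtain ⟨y, hy⟩ := exists_prime_orderOf_dvd_card' (G := D) 5 (by rw [hc]; norm_num)
  obtain ⟨w, hw⟩ := exists_prime_orderOf_dvd_card' (G := D) 3 (by rw [hc]; norm_num)
  have hYn : (Subgroup.zpowers y).Normal := by
    refine Subgroup.normal_of_index_eq_minFac_card ?_
    have h := card_mul_index (Subgroup.zpowers y)
    rw [Nat.card_zpowers, hy, hc] at h
    rw [hc]
    norm_num
    omega
  -- `w` centralises a generator of the subgroup of order five
  obtain ⟨y', hy', hyw⟩ := exists_commute_of_set (p := 3) (g := (w : G))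
    (by rw [← SubgroupClass.coe_pow, ← hw, pow_orderOf_eq_one]; rfl)
    (T := {x : G | ∃ h : x ∈ D, (⟨x, h⟩ : D) ∈ Subgroup.zpowers y ∧ x ≠ 1})
    (fun x hx => by
      obtain ⟨h, hxy, hx1⟩ := hx
      exact ⟨mul_mem (mul_mem w.2 h) (inv_mem w.2), hYn.conj_mem _ hxy w,
        fun e => hx1 (conj_eq_one_iff.mp e)⟩)
    (by
      have hY : Nat.card {x : D // x ∈ Subgroup.zpowers y ∧ x ≠ 1} = 4 := by
        have : ({x : D | x ∈ Subgroup.zpowers y ∧ x ≠ 1}) = (Subgroup.zpowers y : Set D) \ {1} := by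
          ext; simp
        show Nat.card ({x : D | x ∈ Subgroup.zpowers y ∧ x ≠ 1} : Set D) = 4
        rw [this, Nat.card_coe_set_eq, Set.ncard_sdiff_singleton_of_mem (one_mem (Subgroup.zpowers y)),
          ← Nat.card_coe_set_eq]
        show Nat.card (Subgroup.zpowers y) - 1 = 4
        rw [Nat.card_zpowers, hy]
      show ¬ 3 ∣ Nat.card {x : G // ∃ h : x ∈ D, (⟨x, h⟩ : D) ∈ Subgroup.zpowers y ∧ x ≠ 1}
      rw [Nat.card_congr (β := {x : D // x ∈ Subgroup.zpowers y ∧ x ≠ 1})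
        { toFun := fun x => ⟨⟨x.1, x.2.1⟩, x.2.2.1, fun e => x.2.2.2 (congrArg Subtype.val e)⟩
          invFun := fun x => ⟨x.1.1, x.1.2, x.2.1, fun e => x.2.2 (Subtype.ext e)⟩
          left_inv := fun _ => rfl
          right_inv := fun _ => rfl }, hY]
      norm_num)
  obtain ⟨hy'D, hy'Y, hy'1⟩ := hy'
  have hy5 : orderOf y' = 5 := by
    refine orderOf_eq_prime ?_ hy'1
    have h5 := pow_card_eq_one' (x := (⟨_, hy'Y⟩ : Subgroup.zpowers y))
    rw [Nat.card_zpowers, hy] at h5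
    exact congrArg (fun z : Subgroup.zpowers y => ((z : D) : G)) h5
  set g : G := (w : G)
  have hg : g ∈ normalizer (V : Set G) := hD w.2
  have hg3 : orderOf g = 3 := by rw [show g = ((w : D) : G) from rfl, Subgroup.orderOf_coe, hw]
  have hyP := hD hy'D
  -- `g` fixes every conjugate of `W`
  let f : fam V W → fam V W := fun X => ⟨cj g X, fam_conj X.2 hg⟩
  have hfk : ∀ (k : ℕ) (X : fam V W), ((f^[k] X : fam V W) : Subgroup G) = cj (g ^ k) X := by
    intro k X
    induction k with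
    | zero => simp [cj_of_mem_normalizer (one_mem (normalizer ((X : Subgroup G) : Set G)))]
    | succ k ih =>
      rw [Function.iterate_succ_apply', pow_succ', ← cj_cj]
      exact congrArg (cj g) ih
  obtain ⟨X0, hX0⟩ := exists_fix (p := 3) (α := fam V W) (by rw [H.card_fam]; norm_num) f fun X => by
    refine Subtype.ext ((hfk 3 X).trans ?_)
    rw [← hg3, pow_orderOf_eq_one]
    exact cj_of_mem_normalizer (one_mem _)
  have hX0 : cj g X0 = (X0 : Subgroup G) := congrArg Subtype.val hX0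
  have hall : ∀ X ∈ fam V W, cj g X = X := by
    let e : Fin 5 → fam V W := fun j => ⟨cj (y' ^ (j : ℕ)) X0, fam_conj X0.2 (pow_mem hyP _)⟩
    have hinj : Function.Injective e := by
      intro i j h0
      by_contra hij
      wlog hlt : (i : ℕ) < j generalizing i j with hw'
      · exact hw' h0.symm (Ne.symm hij) (by have := Fin.val_ne_of_ne hij; omega)
      have h : cj (y' ^ (i : ℕ)) (X0 : Subgroup G) = cj (y' ^ (j : ℕ)) X0 := congrArg Subtype.val h0
      have h5 : orderOf (y' ^ ((j : ℕ) - i)) = 5 := by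
        rw [orderOf_pow' _ (by omega), hy5,
          Nat.Coprime.gcd_eq_one (Nat.Coprime.symm ?_), Nat.div_one]
        exact ((Nat.Prime.coprime_iff_not_dvd (by norm_num)).mpr fun hd => by
          have := Nat.le_of_dvd (by omega) hd
          omega).symm
      refine H.five_moves h5 (pow_mem hyP _) X0.2 ?_
      have h' := congrArg (cj ((y' ^ (i : ℕ))⁻¹)) h
      rw [cj_cj, cj_cj, inv_mul_cancel, cj_of_mem_normalizer (one_mem _)] at h'
      rw [show y' ^ ((j : ℕ) - i) = (y' ^ (i : ℕ))⁻¹ * y' ^ (j : ℕ) by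
        rw [eq_inv_mul_iff_mul_eq, ← pow_add]; congr 1; omega]
      exact h'.symm
    have hsurj := (hinj.bijective_of_nat_card_le (by rw [H.card_fam, Nat.card_fin])).2
    intro X hX
    obtain ⟨j, hj⟩ := hsurj ⟨X, hX⟩
    have hj : cj (y' ^ (j : ℕ)) (X0 : Subgroup G) = X := congrArg Subtype.val hj
    have hc : g * y' ^ (j : ℕ) = y' ^ (j : ℕ) * g := (Commute.pow_right hyw _)
    rw [← hj, cj_cj, hc, ← cj_cj, hX0]
  -- so `g` centralises `S / V` and then an involution
  obtain ⟨⟨x, hxW, hxV⟩⟩ : Nonempty {x : G // x ∈ W ∧ x ∉ V} :=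
    (Nat.card_pos_iff.mp (by rw [H.card_outside H.W_mem_fam]; norm_num)).1
  obtain ⟨Y, hYf, hYne⟩ : ∃ Y ∈ fam V W, Y ≠ W := by
    by_contra h
    push Not at h
    have : Subsingleton (fam V W) := ⟨fun a b => Subtype.ext ((h a a.2).trans (h b b.2).symm)⟩
    have := Finite.card_le_one_iff_subsingleton.mpr this
    rw [H.card_fam] at this
    omega
  have key : ∀ a ∈ W, g * a * g⁻¹ * a⁻¹ ∈ V := by
    intro a ha
    have hgW : g * a * g⁻¹ ∈ W := by
      have := conj_mem_cj (g := g) ha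
      rwa [hall W H.W_mem_fam] at this
    have hu : g * a * g⁻¹ * a⁻¹ ∈ W := mul_mem hgW (inv_mem ha)
    have haP : a ∈ normalizer (V : Set G) := H.SV (H.WS ha)
    refine H.sup_inf_sup H.W_mem_fam hYf (Ne.symm hYne) (mem_sup_right hu)
      (H.two_fixes (H.sqW _ hu) (H.SV (H.WS hu)) hYf ?_)
    have hg' : cj g⁻¹ (cj a⁻¹ Y) = cj a⁻¹ Y := by
      have h := congrArg (cj g⁻¹) (hall _ (fam_conj hYf (inv_mem haP)))
      rw [cj_cj, inv_mul_cancel, cj_of_mem_normalizer (one_mem _)] at h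
      exact h.symm
    calc cj (g * a * g⁻¹ * a⁻¹) Y = cj g (cj a (cj g⁻¹ (cj a⁻¹ Y))) := by
          rw [cj_cj, cj_cj, cj_cj]
      _ = Y := by rw [hg', cj_cj a, mul_inv_cancel, cj_of_mem_normalizer (one_mem _), hall Y hYf]
  obtain ⟨a, ha, hc'⟩ := exists_commute_of_set (p := 3) (g := g) (hg3 ▸ pow_orderOf_eq_one g)
    (T := {a : G | a ∈ W ∧ a * x⁻¹ ∈ V})
    (fun a ha => by
      have h1 : g * a * g⁻¹ ∈ W := by
        have := conj_mem_cj (g := g) ha.1
        rwa [hall W H.W_mem_fam] at this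
      exact ⟨h1, by
        rw [show g * a * g⁻¹ * x⁻¹ = g * a * g⁻¹ * a⁻¹ * (a * x⁻¹) by group]
        exact mul_mem (key a ha.1) ha.2⟩)
    (by
      show ¬ 3 ∣ Nat.card {a : G // a ∈ W ∧ a * x⁻¹ ∈ V}
      rw [Nat.card_congr (β := (V ⊓ W : Subgroup G))
        { toFun := fun a => ⟨a.1 * x⁻¹, a.2.2, W.mul_mem a.2.1 (W.inv_mem hxW)⟩
          invFun := fun z => ⟨z.1 * x, W.mul_mem z.2.2 hxW, by rw [mul_inv_cancel_right]; exact z.2.1⟩
          left_inv := fun a => Subtype.ext (inv_mul_cancel_right a.1 x)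
          right_inv := fun z => Subtype.ext (mul_inv_cancel_right z.1 x) }, H.cZ]
      norm_num)
  refine H.not_commute_inv Nat.prime_three (by norm_num) hg3 ⟨fun e => hxV ?_, H.sqW a ha.1⟩ hc'
  simpa [e] using ha.2

end Hyp

end Cfsg.Agent.CITPlane4
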