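import Mathlib

/-!
# Two subgroups `2^4:A5` over a Sylow 2-subgroup of order 64 in a CIT group: local facts

`V` and `W` are the two elementary abelian subgroups of order 16; only the orders of their
normalisers are used.
-/

set_option autoImplicit false

open Subgroup

namespace Cfsg.Agent.CITPlane4

universe u

variable {G : Type u} [Group G]

/-- Conjugate subgroup. -/
abbrev cj (g : G) (K : Subgroup G) : Subgroup G := K.map (MulAut.conj g).toMonoidHom

theorem mem_cj {g x : G} {K : Subgroup G} : x ∈ cj g K ↔ g⁻¹ * x * g ∈ K := by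
  rw [Subgroup.mem_map]
  constructor
  · rintro ⟨y, hy, rfl⟩
    simpa [mul_assoc] using hy
  · intro h
    exact ⟨_, h, by simp [mul_assoc]⟩

theorem conj_mem_cj {g x : G} {K : Subgroup G} (hx : x ∈ K) : g * x * g⁻¹ ∈ cj g K :=
  mem_cj.mpr (by simpa [mul_assoc] using hx)

theorem cj_cj (a b : G) (K : Subgroup G) : cj a (cj b K) = cj (a * b) K := by
  ext x
  simp [mem_cj, mul_assoc]

theorem card_cj (g : G) (K : Subgroup G) : Nat.card (cj g K) = Nat.card K :=
  Nat.card_congr (K.equivMapOfInjective _ (MulAut.conj g).injective).symm.toEquiv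

theorem cj_of_mem_normalizer {g : G} {K : Subgroup G} (hg : g ∈ normalizer (K : Set G)) :
    cj g K = K := by
  ext x
  rw [mem_cj]
  have h := Subgroup.mem_normalizer_iff.mp (inv_mem hg) x
  rw [inv_inv] at h
  exact h.symm

theorem mem_normalizer_of_cj {g : G} {K : Subgroup G} (h : cj g K = K) :
    g ∈ normalizer (K : Set G) := by
  refine Subgroup.mem_normalizer_iff.mpr fun x => ⟨fun hx => h ▸ conj_mem_cj hx, fun hx => ?_⟩
  have hx' : g * x * g⁻¹ ∈ cj g K := h.symm ▸ hx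
  simpa [mul_assoc] using mem_cj.mp hx'

theorem cj_sup (g : G) (A B : Subgroup G) : cj g (A ⊔ B) = cj g A ⊔ cj g B :=
  Subgroup.map_sup _ _ _

/-- Sylow's theorem inside a subgroup. -/
theorem exists_conj_le [Finite G] {p : ℕ} [Fact p.Prime] {P S R : Subgroup G} (hS : IsPGroup p S)
    (hSP : S ≤ P) (hidx : ¬ p ∣ S.relIndex P) (hR : IsPGroup p R) (hRP : R ≤ P) :
    ∃ g ∈ P, ∀ x ∈ R, g * x * g⁻¹ ∈ S := by
  have hS' : IsPGroup p (S.subgroupOf P) := hS.of_equiv (subgroupOfEquivOfLe hSP).symm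
  let Q : Sylow p P := hS'.toSylow hidx
  have hR' : IsPGroup p (R.subgroupOf P) := hR.of_equiv (subgroupOfEquivOfLe hRP).symm
  obtain ⟨T, hT⟩ := hR'.exists_le_sylow
  obtain ⟨g, hg⟩ := MulAction.exists_smul_eq P T Q
  refine ⟨g, g.2, fun x hx => ?_⟩
  have h2 : g * (⟨x, hRP hx⟩ : P) * g⁻¹ ∈ ((g • T : Sylow p P) : Subgroup P) := by
    rw [Sylow.coe_subgroup_smul]
    have h3 : (⟨x, hRP hx⟩ : P) ∈ (T : Subgroup P) := hT (mem_subgroupOf.mpr hx)
    exact Subgroup.smul_mem_pointwise_smul _ (MulAut.conj g) _ h3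
  rw [hg] at h2
  exact mem_subgroupOf.mp h2

/-- An involution. -/
abbrev IsInv (t : G) : Prop := t ≠ 1 ∧ t * t = 1

theorem IsInv.inv_eq {t : G} (h : IsInv t) : t⁻¹ = t := inv_eq_of_mul_eq_one_right h.2

theorem IsInv.conj {t : G} (h : IsInv t) (g : G) : IsInv (g * t * g⁻¹) :=
  ⟨fun e => h.1 (conj_eq_one_iff.mp e), by
    rw [show g * t * g⁻¹ * (g * t * g⁻¹) = g * (t * t) * g⁻¹ by group, h.2]; group⟩

theorem IsInv.orderOf {t : G} (h : IsInv t) : orderOf t = 2 :=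
  orderOf_eq_prime (by rw [pow_two]; exact h.2) h.1

/-- The configuration. -/
structure Hyp (S V W : Subgroup G) : Prop where
  cit : ∀ t : G, IsInv t → IsPGroup 2 (centralizer ({t} : Set G))
  syl : Odd S.index
  cS : Nat.card S = 64
  cV : Nat.card V = 16
  cW : Nat.card W = 16
  cZ : Nat.card (V ⊓ W : Subgroup G) = 4
  sqV : ∀ x ∈ V, x * x = 1
  sqW : ∀ x ∈ W, x * x = 1
  VS : V ≤ S
  WS : W ≤ S
  prod : ∀ x ∈ S, ∃ v ∈ V, ∃ w ∈ W, x = v * w
  SV : S ≤ normalizer (V : Set G)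
  SW : S ≤ normalizer (W : Set G)
  cP : Nat.card (normalizer (V : Set G)) = 960
  cQ : Nat.card (normalizer (W : Set G)) = 960
  selfV : ∀ x ∈ S, (∀ v ∈ V, x * v = v * x) → x ∈ V
  selfW : ∀ x ∈ S, (∀ v ∈ W, x * v = v * x) → x ∈ W

theorem comm_of_sq {K : Subgroup G} (h : ∀ x ∈ K, x * x = 1) {a b : G} (ha : a ∈ K) (hb : b ∈ K) :
    a * b = b * a := by
  have hi : ∀ x ∈ K, x⁻¹ = x := fun x hx => inv_eq_of_mul_eq_one_right (h x hx)
  calc a * b = (a * b)⁻¹ := (hi _ (mul_mem ha hb)).symm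
    _ = b * a := by rw [mul_inv_rev, hi a ha, hi b hb]

namespace Hyp

variable [Finite G] {S V W : Subgroup G} (H : Hyp S V W)
include H

theorem symm : Hyp S W V where
  cit := H.cit
  syl := H.syl
  cS := H.cS
  cV := H.cW
  cW := H.cV
  cZ := by rw [inf_comm]; exact H.cZ
  sqV := H.sqW
  sqW := H.sqV
  VS := H.WS
  WS := H.VS
  prod := fun x hx => by
    obtain ⟨v, hv, w, hw, rfl⟩ := H.prod x hx
    exact ⟨v * w * v⁻¹, (Subgroup.mem_normalizer_iff.mp (H.SW (H.VS hv)) w).mp hw, v, hv, by group⟩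
  SV := H.SW
  SW := H.SV
  cP := H.cQ
  cQ := H.cP
  selfV := H.selfW
  selfW := H.selfV

theorem isPGroupS : IsPGroup 2 S := IsPGroup.of_card (n := 6) H.cS

theorem conj_into {R : Subgroup G} (hR : IsPGroup 2 R) : ∃ g : G, ∀ x ∈ R, g * x * g⁻¹ ∈ S := by
  haveI : Fact (Nat.Prime 2) := ⟨Nat.prime_two⟩
  obtain ⟨g, -, hg⟩ := exists_conj_le (P := ⊤) H.isPGroupS le_top
    (by rw [relIndex_top_right]; exact H.syl.not_two_dvd_nat) hR le_top
  exact ⟨g, hg⟩

theorem conj_intoP {R : Subgroup G} (hR : IsPGroup 2 R) (hRP : R ≤ normalizer (V : Set G)) :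
    ∃ g ∈ normalizer (V : Set G), ∀ x ∈ R, g * x * g⁻¹ ∈ S := by
  haveI : Fact (Nat.Prime 2) := ⟨Nat.prime_two⟩
  refine exists_conj_le H.isPGroupS H.SV ?_ hR hRP
  have h := card_mul_index (S.subgroupOf (normalizer (V : Set G)))
  rw [Nat.card_congr (subgroupOfEquivOfLe H.SV).toEquiv, H.cS, H.cP] at h
  have h2 : S.relIndex (normalizer (V : Set G)) = 15 := by
    show (S.subgroupOf (normalizer (V : Set G))).index = 15
    omega
  rw [h2]; decide

theorem sup_eq : V ⊔ W = S := by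
  refine le_antisymm (sup_le H.VS H.WS) fun x hx => ?_
  obtain ⟨v, hv, w, hw, rfl⟩ := H.prod x hx
  exact mul_mem_sup hv hw

theorem ne : V ≠ W := fun e => by
  have := H.cZ
  rw [e, inf_idem, H.cW] at this
  omega

theorem inf_central {z x : G} (hz : z ∈ V ⊓ W) (hx : x ∈ S) : z * x = x * z := by
  obtain ⟨v, hv, w, hw, rfl⟩ := H.prod x hx
  calc z * (v * w) = v * z * w := by rw [← mul_assoc, comm_of_sq H.sqV hz.1 hv]
    _ = v * w * z := by rw [mul_assoc, comm_of_sq H.sqW hz.2 hw, mul_assoc]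

theorem exists_z : ∃ z ∈ V ⊓ W, IsInv z := by
  obtain ⟨z, hz, hz1⟩ := (Subgroup.ne_bot_iff_exists_ne_one (H := V ⊓ W)).mp (fun e => by
    have := H.cZ
    rw [e, Subgroup.card_bot] at this
    omega) |> fun ⟨a, ha⟩ => (⟨a.1, a.2, fun e => ha (Subtype.ext e)⟩ : ∃ z ∈ V ⊓ W, z ≠ 1)
  exact ⟨z, hz, hz1, H.sqV z hz.1⟩

theorem card_cent_le {t : G} (ht : IsInv t) : Nat.card (centralizer ({t} : Set G)) ≤ 64 := by
  obtain ⟨g, hg⟩ := H.conj_into (H.cit t ht)
  rw [← H.cS, ← card_cj g]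
  refine Subgroup.card_le_of_le ?_
  intro x hx
  obtain ⟨y, hy, rfl⟩ := hx
  exact hg y hy

theorem cent_z {z : G} (hz : z ∈ V ⊓ W) (hz1 : z ≠ 1) : centralizer ({z} : Set G) = S := by
  refine (Subgroup.eq_of_le_of_card_ge (fun x hx => mem_centralizer_singleton_iff.mpr
    (H.inf_central hz hx).symm) ?_).symm
  rw [H.cS]
  exact H.card_cent_le ⟨hz1, H.sqV z hz.1⟩

/-- The normaliser of `V` is transitive on its involutions. -/
theorem trans {z v : G} (hz : z ∈ V ⊓ W) (hz1 : z ≠ 1) (hv : v ∈ V) (hv1 : v ≠ 1) :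
    ∃ m ∈ normalizer (V : Set G), m * z * m⁻¹ = v := by
  classical
  set P := normalizer (V : Set G)
  let f : P → {v : G // v ∈ V ∧ v ≠ 1} := fun m => ⟨m * z * (m : G)⁻¹,
    (Subgroup.mem_normalizer_iff.mp m.2 z).mp hz.1, fun e => hz1 (conj_eq_one_iff.mp e)⟩
  by_contra hne
  push Not at hne
  have hf : ∀ m, f m ≠ ⟨v, hv, hv1⟩ := fun m e => hne m m.2 (congrArg Subtype.val e)
  have h16 : Nat.card {v : G // v ∈ V ∧ v ≠ 1} = 15 := by
    have : ({v : G | v ∈ V ∧ v ≠ 1}) = (V : Set G) \ {1} := by ext; simp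
    show Nat.card ({v : G | v ∈ V ∧ v ≠ 1} : Set G) = 15
    rw [this, Nat.card_coe_set_eq, Set.ncard_sdiff_singleton_of_mem (one_mem V),
      ← Nat.card_coe_set_eq, show Nat.card ((V : Set G) : Type u) = 16 from H.cV]
  have hfib : ∀ a, Nat.card {m // f m = a} ≤ 64 := by
    intro a
    rcases isEmpty_or_nonempty {m // f m = a} with h | ⟨⟨m0, hm0⟩⟩
    · simp
    rw [← H.cS]
    refine Nat.card_le_card_of_injective (fun m => (⟨(m0 : G)⁻¹ * (m.1 : G), ?_⟩ : S))
      fun m n e => ?_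
    · rw [← H.cent_z hz hz1, mem_centralizer_singleton_iff]
      have e : (m.1 : G) * z * (m.1 : G)⁻¹ = m0 * z * (m0 : G)⁻¹ :=
        congrArg Subtype.val (m.2.trans hm0.symm)
      calc (m0 : G)⁻¹ * m.1 * z = (m0 : G)⁻¹ * ((m.1 : G) * z * (m.1 : G)⁻¹) * m.1 := by group
        _ = z * ((m0 : G)⁻¹ * m.1) := by rw [e]; group
    · exact Subtype.ext (Subtype.ext (mul_left_cancel (congrArg Subtype.val e :)))
  have := Fintype.ofFinite {v : G // v ∈ V ∧ v ≠ 1}
  have h1 : Nat.card P = ∑ a, Nat.card {m // f m = a} := by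
    rw [← Nat.card_congr (Equiv.sigmaFiberEquiv f), Nat.card_sigma]
  rw [← Finset.add_sum_erase _ _ (Finset.mem_univ (⟨v, hv, hv1⟩ : {v : G // v ∈ V ∧ v ≠ 1}))] at h1
  have h0 : Nat.card {m // f m = ⟨v, hv, hv1⟩} = 0 := by
    haveI : IsEmpty {m // f m = ⟨v, hv, hv1⟩} := ⟨fun m => hf m.1 m.2⟩
    simp
  have h2 := Finset.sum_le_card_nsmul (Finset.univ.erase (⟨v, hv, hv1⟩ : {v : G // v ∈ V ∧ v ≠ 1}))
    _ 64 fun a _ => hfib a
  rw [Finset.card_erase_of_mem (Finset.mem_univ _), Finset.card_univ, ← Nat.card_eq_fintype_card,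
    h16, smul_eq_mul] at h2
  rw [H.cP, h0] at h1
  omega

/-- Involutions of `S` lie in `V` or in `W`; stated for elements of square one. -/
theorem S_invol {x : G} (hx : x ∈ S) (hx2 : x * x = 1) : x ∈ V ∨ x ∈ W := by
  obtain ⟨v, hv, w, hw, rfl⟩ := H.prod x hx
  by_cases hvW : v ∈ W
  · exact Or.inr (mul_mem hvW hw)
  left
  refine mul_mem hv ?_
  have hwv : w * v = v * w := by
    have e : v * w * (v * w) = 1 := hx2
    calc w * v = v * (v * w * (v * w)) * w := by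
          rw [show v * (v * w * (v * w)) * w = v * v * (w * v) * (w * w) by group, H.sqV v hv,
            H.sqW w hw, one_mul, mul_one]
      _ = v * w := by rw [e, mul_one]
  have hv1 : v ≠ 1 := fun e => hvW (e ▸ one_mem W)
  obtain ⟨z, hz, hzi⟩ := H.exists_z
  obtain ⟨m, hm, rfl⟩ := H.trans hz hzi.1 hv hv1
  refine H.selfV w (H.WS hw) fun u hu => ?_
  -- `V ⊓ W` and its conjugate by `m` generate `V`
  have hcomm1 : ∀ a ∈ V ⊓ W, w * a = a * w := fun a ha => comm_of_sq H.sqW hw ha.2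
  have hcomm2 : ∀ a ∈ V ⊓ W, w * (m * a * m⁻¹) = m * a * m⁻¹ * w := by
    intro a ha
    have h1 : m⁻¹ * w * m ∈ centralizer ({z} : Set G) := by
      rw [mem_centralizer_singleton_iff]
      calc m⁻¹ * w * m * z = m⁻¹ * (w * (m * z * m⁻¹)) * m := by group
        _ = z * (m⁻¹ * w * m) := by rw [hwv]; group
    rw [H.cent_z hz hzi.1] at h1
    have h2 := H.inf_central ha h1
    calc w * (m * a * m⁻¹) = m * (m⁻¹ * w * m * a) * m⁻¹ := by group
      _ = m * a * m⁻¹ * w := by rw [← h2]; group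
  have hdisj : ∀ a ∈ V ⊓ W, ∀ b ∈ V ⊓ W, a = m * b * m⁻¹ → a = 1 := by
    intro a ha b hb e
    by_contra ha1
    have hb1 : b ≠ 1 := fun e' => ha1 (by rw [e, e']; group)
    have hmS : cj m S = S := by
      ext x
      rw [mem_cj]
      constructor
      · intro h
        rw [← H.cent_z ha ha1, mem_centralizer_singleton_iff, e]
        calc x * (m * b * m⁻¹) = m * (m⁻¹ * x * m * b) * m⁻¹ := by group
          _ = m * b * m⁻¹ * x := by rw [← H.inf_central hb h]; group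
      · intro h
        rw [← H.cent_z hb hb1, mem_centralizer_singleton_iff]
        calc m⁻¹ * x * m * b = m⁻¹ * (x * (m * b * m⁻¹)) * m := by group
          _ = b * (m⁻¹ * x * m) := by rw [← e, ← H.inf_central ha h, e]; group
    -- so `v` is central in `S`
    refine hvW (H.selfW _ (H.VS hv) fun u hu => ?_)
    have hu' : m⁻¹ * u * m ∈ S := by rw [← mem_cj, hmS]; exact H.WS hu
    calc m * z * m⁻¹ * u = m * (z * (m⁻¹ * u * m)) * m⁻¹ := by group
      _ = u * (m * z * m⁻¹) := by rw [H.inf_central hz hu']; group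
  -- product map onto `V`
  have hinj : Function.Injective fun p : (V ⊓ W : Subgroup G) × (V ⊓ W : Subgroup G) =>
      (p.1 : G) * (m * p.2 * m⁻¹) := by
    rintro ⟨a, b⟩ ⟨a', b'⟩ e
    simp only at e
    have e1 : (a' : G)⁻¹ * a = m * (b' * (b : G)⁻¹) * m⁻¹ := by
      calc (a' : G)⁻¹ * a = (a' : G)⁻¹ * ((a : G) * (m * b * m⁻¹)) * (m * b * m⁻¹)⁻¹ := by group
        _ = m * (b' * (b : G)⁻¹) * m⁻¹ := by rw [e]; group
    have h1 := hdisj _ (mul_mem (inv_mem a'.2) a.2) _ (mul_mem b'.2 (inv_mem b.2)) e1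
    have hb : (b' : G) * (b : G)⁻¹ = 1 := by
      rw [h1] at e1
      exact conj_eq_one_iff.mp e1.symm
    exact Prod.ext (Subtype.ext (inv_mul_eq_one.mp h1).symm)
      (Subtype.ext (mul_inv_eq_one.mp hb).symm)
  have hmemV : ∀ p : (V ⊓ W : Subgroup G) × (V ⊓ W : Subgroup G),
      (p.1 : G) * (m * p.2 * m⁻¹) ∈ V := fun p =>
    mul_mem p.1.2.1 ((Subgroup.mem_normalizer_iff.mp hm _).mp p.2.2.1)
  have hbij : Function.Bijective fun p => (⟨_, hmemV p⟩ : V) := by
    refine Function.Injective.bijective_of_nat_card_le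
      (fun a b e => hinj (congrArg Subtype.val e)) ?_
    rw [Nat.card_prod, H.cZ, H.cV]
  obtain ⟨⟨a, b⟩, hab⟩ := hbij.2 ⟨u, hu⟩
  have hu' : (a : G) * (m * b * m⁻¹) = u := congrArg Subtype.val hab
  rw [← hu', ← mul_assoc, hcomm1 a a.2, mul_assoc, hcomm2 b b.2, ← mul_assoc]

/-- An elementary subgroup of order 16 of `S` is `V` or `W`. -/
theorem eq_V_or_W {R : Subgroup G} (hRS : R ≤ S) (hR : ∀ x ∈ R, x * x = 1)
    (hc : Nat.card R = 16) : R = V ∨ R = W := by
  by_cases hV : R ≤ V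
  · exact Or.inl (Subgroup.eq_of_le_of_card_ge hV (by rw [hc, H.cV]))
  obtain ⟨a, ha, haV⟩ := SetLike.not_le_iff_exists.mp hV
  have haW : a ∈ W := (H.S_invol (hRS ha) (hR a ha)).resolve_left haV
  refine Or.inr (Subgroup.eq_of_le_of_card_ge (fun x hx => ?_) (by rw [hc, H.cW]))
  rcases H.S_invol (hRS hx) (hR x hx) with h | h
  · rcases H.S_invol (hRS (mul_mem ha hx)) (hR _ (mul_mem ha hx)) with h' | h'
    · exact absurd ((Subgroup.mul_mem_cancel_right V h).mp h') haV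
    · exact (Subgroup.mul_mem_cancel_left W haW).mp h'
  · exact h

/-- An element normalising `V` and `S` normalises `W`. -/
theorem mem_normalizer_W {m : G} (hm : m ∈ normalizer (V : Set G)) (hS : cj m S = S) :
    cj m W = W := by
  have h1 : cj m W ≤ S := hS ▸ Subgroup.map_mono H.WS
  have h2 : ∀ x ∈ cj m W, x * x = 1 := fun x hx => by
    have := H.sqW _ (mem_cj.mp hx)
    rw [show m⁻¹ * x * m * (m⁻¹ * x * m) = m⁻¹ * (x * x) * m⁻¹⁻¹ by group] at this
    exact conj_eq_one_iff.mp this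
  refine (H.eq_V_or_W h1 h2 (by rw [card_cj, H.cW])).resolve_left fun e => H.ne ?_
  have h3 := congrArg (cj m⁻¹) e
  rw [cj_cj, inv_mul_cancel, cj_of_mem_normalizer (inv_mem hm)] at h3
  exact h3.symm.trans (cj_of_mem_normalizer (one_mem _))

end Hyp

end Cfsg.Agent.CITPlane4
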